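import Cfsg.Agent.H628.Exc.Rows

/-!
# A subgroup of `³D₄(q)` containing unipotent elements of enough centralizers is everything (helper81, S3938)

After `H316.U6.noSP`: `H` contains the unipotent elements commuting with the element `x` of `CentRoot` and with the nontrivial
elements of a toral elementary abelian subgroup of order `p ^ 2`.
-/

set_option autoImplicit false
set_option linter.unusedSectionVars false

namespace Cfsg.Agent.H81.Spr

open CoxeterSystem Cfsg Cfsg.Lie Cfsg.Lie.ChevalleyDatum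
open Cfsg.Agent.ChevalleyStructure Cfsg.Agent.ChevalleyStructure.Elts Cfsg.Agent.ChevalleyStructure.CoxeterGeom
  Cfsg.Agent.ChevalleyStructure.CoxeterGeomTypes Cfsg.Agent.ChevalleyStructure.NPerm
  Cfsg.Agent.ChevalleyStructure.XColumns
open Cfsg.Agent.Tits.Roots Cfsg.Agent.Tits.Core Cfsg.Agent.Nodes Cfsg.Agent.Nodes.Reps Cfsg.Agent.Nodes.BNOf
  Cfsg.Agent.Nodes.OppDec Cfsg.Agent.Nodes.LeviDec Cfsg.Agent.Nodes.StabComb
  Cfsg.Agent.Nodes.RGDChev Cfsg.Agent.Nodes.Bruhat Cfsg.Agent.Nodes.NormalForm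
open Cfsg.Agent.KFacts.RgdField Cfsg.Agent.KFacts.RgdChevCoord
open Cfsg.Agent.BpExc Cfsg.Agent.BpExc.TorCent Cfsg.Agent.BpExc.TorChev Cfsg.Agent.BpExc.Tow
  Cfsg.Agent.BpExc.TowChev Cfsg.Agent.BpExc.Fr Cfsg.Agent.BpExc.Pair Cfsg.Agent.BpExc.LangFr
open Cfsg.Agent.H469.Exc Cfsg.Agent.H469.Exc.SigFr Cfsg.Agent.H818.StrP
open Cfsg.Agent.H316 Cfsg.Agent.H316.U6
open scoped Matrix

universe u v

section Gen

variable {D : ChevalleyDatum} {l : ℕ} {M : CoxeterMatrix (Fin l)} {hp : IsType D l M} {r q : ℕ}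
  [hr : Fact r.Prime] {K₀ : Type v} [Group K₀]

theorem top_of (m : MData hp r q K₀) [Finite K₀] [IsSimpleGroup K₀] {p : ℕ} [hpp : Fact p.Prime]
    (hD : 0 < D.nroots) (hq1 : 1 < q) (hd : U3.Density hp M.toCoxeterSystem (KK r) r m.e) (hZ : ThmZ m)
    {x : K₀} (hx : ∀ u, m.σ u = u →
      (u ∈ XX D l (KK r) (vec D l (D.nroots - 1)) ∨ u ∈ XX D l (KK r) (-vec D l (D.nroots - 1))) →
        u * m.ι x = m.ι x * u)
    {E : Subgroup K₀} (hEp : ∀ a ∈ E, a ^ p = 1) (hE2 : Nat.card ↥E = p ^ 2) {z : ↥(D.group (KK r))}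
    (hz : ∀ a ∈ E, z * m.ι a * z⁻¹ ∈ TT D (KK r)) {H : Subgroup K₀}
    (hHx : ∀ u : K₀, (∃ j, u ^ r ^ j = 1) → u * x = x * u → u ∈ H)
    (hHE : ∀ a ∈ E, a ≠ 1 → ∀ u : K₀, (∃ j, u ^ r ^ j = 1) → u * a = a * u → u ∈ H) : H = ⊤ := by
  set HH : Subgroup ↥(D.group (KK r)) := H.map m.ι with hHH
  have hHσ : ∀ h ∈ HH, m.σ h = h := by
    rintro _ ⟨a, -, rfl⟩
    exact m.fix a
  have hθ : IsRoot M.toCoxeterSystem hp.isCartan (vec D l (D.nroots - 1)) :=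
    isRoot_vec hp _ (Nat.sub_lt hD one_pos)
  have hr1 : ∀ u ∈ XX D l (KK r) (vec D l (D.nroots - 1)), ∃ j, u ^ r ^ j = 1 := by
    intro u hu
    rcases hθ.pos_or_neg with h0 | h0
    · exact U3.pow_of_pos hp M.toCoxeterSystem (locFin r) (RGD.le_Sup (X := XX D l (KK r))
        (⟨hθ, h0⟩ : _ ∈ RGD.Pos M.toCoxeterSystem hp.isCartan) hu)
    · exact pow_of_neg hp M.toCoxeterSystem (locFin r) r (RGD.le_Sup (X := XX D l (KK r))
        (⟨hθ, h0⟩ : _ ∈ Neg M.toCoxeterSystem hp.isCartan) hu)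
  have hr2 : ∀ u ∈ XX D l (KK r) (-vec D l (D.nroots - 1)), ∃ j, u ^ r ^ j = 1 := by
    intro u hu
    rcases hθ.neg.pos_or_neg with h0 | h0
    · exact U3.pow_of_pos hp M.toCoxeterSystem (locFin r) (RGD.le_Sup (X := XX D l (KK r))
        (⟨hθ.neg, h0⟩ : _ ∈ RGD.Pos M.toCoxeterSystem hp.isCartan) hu)
    · exact pow_of_neg hp M.toCoxeterSystem (locFin r) r (RGD.le_Sup (X := XX D l (KK r))
        (⟨hθ.neg, h0⟩ : _ ∈ Neg M.toCoxeterSystem hp.isCartan) hu)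
  have hpw : ∀ {a : K₀}, (∃ j, m.ι a ^ r ^ j = 1) → ∃ j, a ^ r ^ j = 1 := by
    rintro a ⟨j, hj⟩
    exact ⟨j, m.inj (by rw [map_pow, hj, map_one])⟩
  have hA : ∀ u, m.σ u = u → (∃ j, u ^ r ^ j = 1) → u * m.ι x = m.ι x * u → u ∈ HH := by
    intro u hσ hj hc
    obtain ⟨a, rfl⟩ := m.exists_eq hσ hj
    refine ⟨a, hHx a (hpw hj) (m.inj ?_), rfl⟩
    rw [map_mul, map_mul, hc]
  have hA1 : ∀ u, m.σ u = u → u ∈ XX D l (KK r) (vec D l (D.nroots - 1)) → u ∈ HH :=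
    fun u hσ hu => hA u hσ (hr1 u hu) (hx u hσ (Or.inl hu))
  have hA2 : ∀ u, m.σ u = u → u ∈ XX D l (KK r) (-vec D l (D.nroots - 1)) → u ∈ HH :=
    fun u hσ hu => hA u hσ (hr2 u hu) (hx u hσ (Or.inr hu))
  -- the submodule
  set L : Submodule (KK r) (D.Idx → KK r) := Submodule.span (KK r)
      {v | ∃ h ∈ HH, v = ((h : GL D.Idx (KK r)) : Matrix D.Idx D.Idx (KK r)) *ᵥ ev D (KK r) (D.nroots - 1)} with hLdef
  have hLH : ∀ h ∈ HH, U3.StabU L h := by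
    intro h hh v hv
    have h1 : L ≤ L.comap (((h : GL D.Idx (KK r)) : Matrix D.Idx D.Idx (KK r)).mulVecLin) := by
      refine Submodule.span_le.2 ?_
      rintro _ ⟨h', hh', rfl⟩
      refine Submodule.subset_span ⟨h * h', mul_mem hh hh', ?_⟩
      rw [Matrix.mulVecLin_apply, Matrix.mulVec_mulVec]
      rfl
    exact h1 hv
  have hLtop : ev D (KK r) (D.nroots - 1) ∈ L := Submodule.subset_span ⟨1, one_mem _, by
    rw [Subgroup.coe_one, Units.val_one, Matrix.one_mulVec]⟩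
  -- stability under everything
  have hall : ∀ u : ↥(D.group (KK r)), U3.StabU L u := by
    intro u
    refine U3.stabU_top hp M.toCoxeterSystem (locFin r) m.he hd m.frob m.fr hpp.out
      (E := E.map m.ι) ?_ ?_ ?_ (z := z) ?_ ?_ u
    · rintro _ ⟨a, ha, rfl⟩
      rw [← map_pow, hEp a ha, map_one]
    · rw [Nat.card_congr (Subgroup.equivMapOfInjective _ _ m.inj).toEquiv.symm, hE2]
    · rintro _ ⟨a, -, rfl⟩
      exact m.fix a
    · rintro _ ⟨a, ha, rfl⟩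
      exact hz a ha
    · rintro _ ⟨a, ha, rfl⟩ hne u hσ hc hj
      refine hLH u ?_
      obtain ⟨b, rfl⟩ := m.exists_eq hσ hj
      refine ⟨b, hHE a ha (fun h => hne (by rw [h, map_one])) b (hpw hj) (m.inj ?_), rfl⟩
      rw [map_mul, map_mul]
      exact hc
  -- all root vectors
  obtain ⟨i₀, hi, hi1, hZ⟩ := hZ
  obtain ⟨h1, h2⟩ := hZ HH hHσ hA1 hA2 (fun s hs => by
    have h3 := H549.Exc.all_of_top hp.inList (L := L) (fun g v hv => hall g v hv) hLtop ⟨s, hs⟩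
    rw [ev_eq_single hs]
    exact h3)
  -- the conclusion
  have hN : NQ m i₀ ≤ H := by
    refine (Subgroup.closure_le _).2 ?_
    rintro a (ha | ha)
    · obtain ⟨b, hb, e⟩ := h1 _ (m.fix a) ha
      rwa [← m.inj e]
    · obtain ⟨b, hb, e⟩ := h2 _ (m.fix a) ha
      rwa [← m.inj e]
  have hn := NQ_normal m hi
  rcases hn.eq_bot_or_eq_top with h3 | h3
  · exfalso
    obtain ⟨a, ha1, ha⟩ := exists_top m hD hq1
    refine ha1 (Subgroup.mem_bot.1 ?_)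
    rw [← h3]
    refine Subgroup.subset_closure (Or.inl ?_)
    exact RGD.le_Sup (X := XX D l (KK r)) (S := {a | IsRoot M.toCoxeterSystem hp.isCartan a ∧ 1 ≤ a i₀})
      ⟨hθ, hi1⟩ ha
  · exact top_le_iff.1 (h3 ▸ hN)

end Gen

/-- **`³D₄(q)`**: an element `x₀` of order `p` and an elementary abelian subgroup `E` of order `p ^ 2`, such that every
subgroup containing the unipotent elements commuting with `x₀` and with the elements of a conjugate of `E` is everything -/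
theorem top_twD4 {r : ℕ} [hr : Fact r.Prime] {K : Type} [Field K] [Fintype K] [CharP K r] {q : ℕ} {p : ℕ}
    [hpp : Fact p.Prime] (hqp : IsPrimePow q) (hK : Fintype.card K = q ^ 3) (hq : 3 ≤ q) (hp2 : p ≠ 2) (hpr : p ≠ r)
    {E₀ : Subgroup ↥(twistedD4 K q)} (hE₀ : IsElementaryAbelian p E₀) (hE₀c : Nat.card ↥E₀ = p ^ 2) :
    ∃ (x₀ : ↥(twistedD4 K q)) (E : Subgroup ↥(twistedD4 K q)), orderOf x₀ = p ∧
      (∃ u : ↥(twistedD4 K q), u ≠ 1 ∧ (∃ j, u ^ r ^ j = 1) ∧ u * x₀ = x₀ * u) ∧ (∀ a ∈ E, a ^ p = 1) ∧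
      Nat.card ↥E = p ^ 2 ∧ ∀ (g : ↥(twistedD4 K q)) (H : Subgroup ↥(twistedD4 K q)),
      (∀ u : ↥(twistedD4 K q), (∃ j, u ^ r ^ j = 1) → u * x₀ = x₀ * u → u ∈ H) →
      (∀ a ∈ E, a ≠ 1 → ∀ u : ↥(twistedD4 K q), (∃ j, u ^ r ^ j = 1) → u * (g * a * g⁻¹) = (g * a * g⁻¹) * u →
        u ∈ H) → H = ⊤ := by
  obtain ⟨m, hdd, hg⟩ := H316.U6.mdata_twD4' (r := r) hqp hK
  have : IsSimpleGroup ↥(twistedD4 K q) := (S1071.result hqp hK).1
  have hfin := m.finite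
  obtain ⟨x, hxo, hx⟩ := H628.Exc.Rows.cent_twD4 m hg hdd hK hp2 hpr hE₀ hE₀c
  obtain ⟨E, hEp, -, hEc, z, hz⟩ := H628.Exc.Rows.toral_twD4 m hg hdd hp2 hpr hE₀ hE₀c
  have hD : 0 < chevD4.nroots := by decide
  refine ⟨x, E, hxo, ?_, hEp, hEc, ?_⟩
  · obtain ⟨u, hu1, hu⟩ := exists_top m hD (by omega)
    have hc : u * x = x * u := m.inj (by rw [map_mul, map_mul]; exact hx _ (m.fix u) (Or.inl hu))
    refine ⟨u, hu1, ?_, hc⟩
    have hθ : IsRoot coxeterD4.toCoxeterSystem Nodes.RGDTwD4.hp.isCartan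
        (vec chevD4 4 (chevD4.nroots - 1)) := isRoot_vec Nodes.RGDTwD4.hp _ (Nat.sub_lt hD one_pos)
    have hr1 : ∃ j, m.ι u ^ r ^ j = 1 := by
      rcases hθ.pos_or_neg with h0 | h0
      · exact U3.pow_of_pos Nodes.RGDTwD4.hp coxeterD4.toCoxeterSystem (locFin r)
          (RGD.le_Sup (X := XX chevD4 4 (KK r)) (⟨hθ, h0⟩ : _ ∈ RGD.Pos coxeterD4.toCoxeterSystem
            Nodes.RGDTwD4.hp.isCartan) hu)
      · exact pow_of_neg Nodes.RGDTwD4.hp coxeterD4.toCoxeterSystem (locFin r) r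
          (RGD.le_Sup (X := XX chevD4 4 (KK r)) (⟨hθ, h0⟩ : _ ∈ Neg coxeterD4.toCoxeterSystem
            Nodes.RGDTwD4.hp.isCartan) hu)
    obtain ⟨j, hj⟩ := hr1
    exact ⟨j, m.inj (by rw [map_pow, hj, map_one])⟩
  · intro g H hHx hHE
    refine top_of (p := p) m hD (by omega) (density m hq (fun h => absurd (congrArg ChevalleyDatum.nroots h) (by decide)))
      (H818.StrP.UThm.thmZ m (H628.Exc.Rows.hi (by simp)) hq) hx (E := E.map (MulAut.conj g).toMonoidHom)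
      (z := z * (m.ι g)⁻¹) ?_ ?_ ?_ hHx ?_
    · rintro _ ⟨a, ha, rfl⟩
      rw [← map_pow, hEp a ha, map_one]
    · rw [Nat.card_congr (Subgroup.equivMapOfInjective E _ (MulAut.conj g).injective).toEquiv.symm, hEc]
    · rintro _ ⟨a, ha, rfl⟩
      have e : z * (m.ι g)⁻¹ * m.ι ((MulAut.conj g).toMonoidHom a) * (z * (m.ι g)⁻¹)⁻¹ = z * m.ι a * z⁻¹ := by
        have e1 : (MulAut.conj g).toMonoidHom a = g * a * g⁻¹ := rfl
        rw [e1, map_mul, map_mul, map_inv]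
        group
      rw [e]
      exact hz a ha
    · rintro _ ⟨a, ha, rfl⟩ hne u hu hc
      exact hHE a ha (fun h => hne (by rw [h, map_one])) u hu hc

end Cfsg.Agent.H81.Spr
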