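import Cfsg.Agent.H866.D4Wf.Row
import Cfsg.Agent.KFacts.RgdFiltTwAll
import Cfsg.Agent.H69.OutTwD4

/-!
# `³D₄(q)`, `q` even, `q` of order 3 modulo the prime `ℓ`: elements of order `ℓ` commuting with involutions
(helper81, S3938)

* `conj_T` : such an element is conjugate into the torus `T` of order `(q ^ 3 - 1) (q - 1)`;
* `zp_eq` : `T` has only one subgroup of order `ℓ`;
* `conj_zp` : two such elements generate conjugate subgroups.
-/

set_option autoImplicit false
set_option linter.unusedSectionVars false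

namespace Cfsg.Agent.H81.Spr

open CoxeterSystem Cfsg.Agent.ChevalleyStructure.CoxeterGeom Cfsg.Agent.Tits.Roots Cfsg.Agent.Tits.Core
  Cfsg.Agent.Tits.Exchange Cfsg.Agent.Nodes.Reps Cfsg.Agent.Nodes.BNOf Cfsg.Agent.Nodes.StabComb
  Cfsg.Agent.Nodes.Bruhat Cfsg.Agent.Nodes.OppDec Cfsg.Agent.Nodes.LeviDec Cfsg.Agent.Nodes.RGDTwGen
  Cfsg.Agent.Nodes.RGDChev Cfsg.Agent.Nodes.RGDFold Cfsg.Agent.Nodes.RGDFoldSL
open Cfsg.Agent.KFacts.RgdOpp Cfsg.Agent.KFacts.RgdAut Cfsg.Agent.KFacts.RgdDiag Cfsg.Agent.KFacts.RgdRigid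
  Cfsg.Agent.KFacts.RgdField Cfsg.Agent.KFacts.RgdTau Cfsg.Agent.KFacts.RgdNodes
open Cfsg.Lie Cfsg.Agent.ChevalleyStructure Cfsg.Agent.ChevalleyStructure.Elts
open Cfsg.Agent.ChevalleyStructure.SL2Hom (up lo mem_closure_SL2)
open Cfsg.Agent.KFacts.TwDFour.Out
open Cfsg.Agent.Nodes.RGDTwD4 Cfsg.Agent.Nodes.RGDTwNode.D4
open Cfsg.Agent.CpAut.RgdTwStd Cfsg.Agent.CpAut.RgdTwD4
open Cfsg.Agent.H866.D4Wf (card_PJ_single T_le_PJ)
open Cfsg.Agent.H866.D4Wf.Frame (cs rgd' GG_top card_X0 card_X1)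

/-- a `p`-element of `P` is conjugate into a subgroup of index prime to `p` -/
theorem exists_conj_mem_of_relIndex {Y : Type*} [Group Y] [Finite Y] {p : ℕ} [Fact p.Prime] {T P : Subgroup Y}
    (h : ¬ p ∣ T.relIndex P) {a : Y} (ha : a ∈ P) (ho : orderOf a = p) :
    ∃ g ∈ P, g⁻¹ * a * g ∈ T := by
  let a' : ↥P := ⟨a, ha⟩
  have ho' : orderOf a' = p := by rw [← ho, ← Subgroup.orderOf_coe a']
  have hpg : IsPGroup p ↥(Subgroup.zpowers a') :=
    IsPGroup.of_card (n := 1) (by rw [Nat.card_zpowers, ho', pow_one])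
  obtain ⟨x, hx⟩ := hpg.nonempty_fixed_point_of_prime_not_dvd_card (↥P ⧸ T.subgroupOf P) h
  obtain ⟨g, rfl⟩ := QuotientGroup.mk_surjective x
  have h1 := hx ⟨a', Subgroup.mem_zpowers a'⟩
  have h2 : (QuotientGroup.mk (a' * g) : ↥P ⧸ T.subgroupOf P) = QuotientGroup.mk g := h1
  have h3 := QuotientGroup.eq.1 h2.symm
  rw [← mul_assoc] at h3
  exact ⟨g, g.2, Subgroup.mem_subgroupOf.1 h3⟩

section Index

variable {I W Y : Type*} [Fintype I] [DecidableEq I] [Group W] [Group Y] {M : CoxeterMatrix I}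
  {cs : CoxeterSystem M W} {A : I → I → ℤ} {h : IsCartan M A} {p : ℕ} {T : Subgroup Y} {n : I → Y}
  {X : (I → ℤ) → Subgroup Y} (R : RGD cs h p T n X)

include R

theorem not_dvd_relIndex [Finite W] [Finite Y] [Fact p.Prime] {l : ℕ} (hl : l.Prime) (hpl : p ≠ l) (i : I)
    (hy : ¬ l ∣ 1 + Nat.card (X (sr i))) : ¬ l ∣ T.relIndex (PJ cs h T X {i}) := by
  have h1 := card_PJ_single R i rfl
  have h2 : T.relIndex (PJ cs h T X {i}) * Nat.card T = Nat.card ↥(PJ cs h T X {i}) := by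
    have h3 := Subgroup.card_mul_index (T.subgroupOf (PJ cs h T X {i}))
    rw [Nat.card_congr (Subgroup.subgroupOfEquivOfLe (T_le_PJ R {i})).toEquiv] at h3
    rw [← h3, mul_comm]
    rfl
  rw [h1, ← mul_assoc] at h2
  have h3 : T.relIndex (PJ cs h T X {i}) = (1 + Nat.card (X (sr i))) * Nat.card ↥(RGD.Sup X (RGD.Pos cs h)) :=
    Nat.eq_of_mul_eq_mul_right Nat.card_pos h2
  rw [h3]
  intro h4
  rcases hl.dvd_mul.1 h4 with h5 | h5
  · exact hy h5
  · obtain ⟨k, hk⟩ := IsPGroup.iff_card.1 R.isPGroup_Upos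
    rw [hk] at h5
    exact hpl ((Nat.prime_dvd_prime_iff_eq hl Fact.out).1 (hl.dvd_of_dvd_pow h5)).symm

end Index

/-- in a commutative group of order `n m` with a cyclic subgroup of order `n`, `l` not dividing `m` -/
theorem zp_eq_of {Y : Type*} [Group Y] [Finite Y] {T : Subgroup Y} (hT : ∀ x ∈ T, ∀ y ∈ T, x * y = y * x)
    {n m l : ℕ} (hn : 0 < n) (hc : Nat.card ↥T = n * m) {d : Y} (hd : d ∈ T) (hdn : orderOf d = n) (hl : l.Prime)
    (hlm : ¬ l ∣ m) {a a' : Y} (ha : a ∈ T) (hao : orderOf a = l) (ha' : a' ∈ T) (hao' : orderOf a' = l) :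
    Subgroup.zpowers a = Subgroup.zpowers a' := by
  classical
  have hDT : Subgroup.zpowers d ≤ T := by rwa [Subgroup.zpowers_le]
  have hmem : ∀ b ∈ T, orderOf b = l → b ∈ Subgroup.zpowers d := by
    intro b hb hbo
    have hnorm : ((Subgroup.zpowers d).subgroupOf T).Normal := ⟨fun x hx y => by
      rw [Subgroup.mem_subgroupOf] at hx ⊢
      have e : ((y * x * y⁻¹ : ↥T) : Y) = x := by
        rw [Subgroup.coe_mul, Subgroup.coe_mul, hT _ y.2 _ x.2, Subgroup.coe_inv, mul_assoc, mul_inv_cancel, mul_one]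
      rw [e]
      exact hx⟩
    have hidx : ((Subgroup.zpowers d).subgroupOf T).index = m := by
      have h1 := Subgroup.card_mul_index ((Subgroup.zpowers d).subgroupOf T)
      rw [Nat.card_congr (Subgroup.subgroupOfEquivOfLe hDT).toEquiv, Nat.card_zpowers, hdn, hc] at h1
      exact Nat.eq_of_mul_eq_mul_left hn h1
    have h1 := Subgroup.pow_index_mem ((Subgroup.zpowers d).subgroupOf T) (⟨b, hb⟩ : ↥T)
    rw [hidx, Subgroup.mem_subgroupOf] at h1
    have h2 : b ^ m ∈ Subgroup.zpowers d := h1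
    have hco : Nat.Coprime (orderOf b) m := by
      rw [hbo]
      exact (Nat.Prime.coprime_iff_not_dvd hl).2 hlm
    obtain ⟨k, hk⟩ : ∃ k : ℕ, (b ^ m) ^ k = b := exists_pow_eq_self_of_coprime hco.symm
    have h3 := (Subgroup.zpowers d).pow_mem h2 k
    rwa [hk] at h3
  have key : ∀ b b' : Y, b ∈ T → orderOf b = l → b' ∈ T → orderOf b' = l →
      Subgroup.zpowers b ≤ Subgroup.zpowers b' := by
    intro b b' hb hbo hb' hbo'
    obtain ⟨i, hi⟩ := Subgroup.mem_zpowers_iff.1 (hmem b hb hbo)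
    obtain ⟨j, hj⟩ := Subgroup.mem_zpowers_iff.1 (hmem b' hb' hbo')
    have hfin : Fintype ↥(Subgroup.zpowers d) := Fintype.ofFinite _
    let u : ↥(Subgroup.zpowers d) := ⟨b, hmem b hb hbo⟩
    let v : ↥(Subgroup.zpowers d) := ⟨b', hmem b' hb' hbo'⟩
    have h1 := IsCyclic.card_pow_eq_one_le (α := ↥(Subgroup.zpowers d)) (n := l) hl.pos
    have h2 : (Finset.univ.filter fun x : ↥(Subgroup.zpowers d) => x ∈ Subgroup.zpowers v).card = l := by
      rw [← Fintype.card_subtype, ← Nat.card_eq_fintype_card]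
      have : Nat.card ↥(Subgroup.zpowers v) = l := by
        rw [Nat.card_zpowers, ← Subgroup.orderOf_coe]
        exact hbo'
      exact this
    have h3 : (Finset.univ.filter fun x : ↥(Subgroup.zpowers d) => x ∈ Subgroup.zpowers v) ⊆
        Finset.univ.filter fun x : ↥(Subgroup.zpowers d) => x ^ l = 1 := by
      intro x hx
      rw [Finset.mem_filter] at hx ⊢
      obtain ⟨k, rfl⟩ := Subgroup.mem_zpowers_iff.1 hx.2
      refine ⟨Finset.mem_univ _, ?_⟩
      have hv : v ^ l = 1 := by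
        apply Subtype.ext
        rw [Subgroup.coe_pow, Subgroup.coe_one, ← hbo']
        exact pow_orderOf_eq_one _
      rw [← zpow_natCast, ← zpow_mul, mul_comm, zpow_mul, zpow_natCast, hv, one_zpow]
    have h4 := Finset.eq_of_subset_of_card_le h3 (by rw [h2]; exact h1)
    have h5 : u ∈ Finset.univ.filter fun x : ↥(Subgroup.zpowers d) => x ^ l = 1 := by
      rw [Finset.mem_filter]
      refine ⟨Finset.mem_univ _, ?_⟩
      apply Subtype.ext
      rw [Subgroup.coe_pow, Subgroup.coe_one, ← hbo]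
      exact pow_orderOf_eq_one _
    rw [← h4, Finset.mem_filter] at h5
    obtain ⟨k, hk⟩ := Subgroup.mem_zpowers_iff.1 h5.2
    rw [Subgroup.zpowers_le]
    exact Subgroup.mem_zpowers_iff.2 ⟨k, congrArg Subtype.val hk⟩
  exact le_antisymm (key a a' ha hao ha' hao') (key a' a ha' hao' ha hao)

section TwD4

variable {K : Type} [Field K] [Fintype K] {q : ℕ} (hq : IsPrimePow q) (hK : Fintype.card K = q ^ 3)

include hq hK

/-- an element of order `q ^ 3 - 1` of the torus -/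
theorem exists_gen [CharP K 2] : ∃ d ∈ T K q, orderOf d = q ^ 3 - 1 := by
  obtain ⟨φ, hφ⟩ := D4Fixed.exists_frob hq hK
  have hK1 : Nat.card (KD φ 1) = q ^ 3 := by
    rw [F3_eq_top hK hφ, ← hK, ← Nat.card_eq_fintype_card]
    exact Nat.card_congr Subfield.topEquiv.toEquiv
  obtain ⟨u, hu⟩ := IsCyclic.exists_generator (α := (KD φ 1)ˣ)
  have hu1 : orderOf u = q ^ 3 - 1 := by
    rw [orderOf_eq_card_of_forall_mem_zpowers hu, Nat.card_units, hK1]
  have hpow : ∀ k : ℕ, PhiD hφ hK 1 (hS (u : KD φ 1)) ^ k = PhiD hφ hK 1 (hS ((u : KD φ 1) ^ k)) := by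
    intro k
    rw [← map_pow]
    congr 1
    induction k with
    | zero =>
      rw [pow_zero, pow_zero]
      apply Subtype.ext
      rw [coe_hS one_ne_zero, inv_one]
      exact Matrix.one_fin_two
    | succ k ih =>
      rw [pow_succ, ih, H115.HC.TwDFour.hS_mul (pow_ne_zero _ u.ne_zero) u.ne_zero, ← pow_succ]
  refine ⟨PhiD hφ hK 1 (hS (u : KD φ 1)), PhiD_hS hφ hK 1 _ u.ne_zero, ?_⟩
  rw [← hu1]
  have hone : PhiD hφ hK 1 (hS (1 : KD φ 1)) = 1 := by
    have := hpow 0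
    rw [pow_zero, pow_zero] at this
    exact this.symm
  have hch1 : chD hφ hK 1 1 = 1 := by
    have h8 := (coordD hφ hK 1).act 1 (one_mem _) 1
    rw [one_mul, inv_one, mul_one, mul_one] at h8
    exact ((coordD hφ hK 1).inj h8).symm
  have hchar : CharP (KD φ 1) 2 := by
    refine ⟨fun x => ?_⟩
    rw [← CharP.cast_eq_zero_iff K 2]
    constructor
    · intro h
      have := congrArg (fun y : KD φ 1 => (y : K)) h
      simpa using this
    · intro h
      apply Subtype.ext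
      simpa using h
  refine orderOf_eq_orderOf_iff.2 fun k => ?_
  rw [hpow k]
  constructor
  · intro h
    have h1 := chD_hS hφ hK 1 ((u : KD φ 1) ^ k) (pow_ne_zero _ u.ne_zero)
    rw [h, hch1] at h1
    apply Units.ext
    rw [Units.val_pow_eq_pow_val, Units.val_one]
    have h2 : ((u : KD φ 1) ^ k - 1) ^ 2 = 0 := by
      have : (2 : KD φ 1) = 0 := by exact_mod_cast CharP.cast_eq_zero (KD φ 1) 2
      linear_combination (-1 : KD φ 1) * h1 + (1 - (u : KD φ 1) ^ k) * this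
    exact sub_eq_zero.1 (pow_eq_zero_iff two_ne_zero |>.1 h2)
  · intro h
    rw [← Units.val_pow_eq_pow_val, h, Units.val_one, hone]

variable {l : ℕ} [hl : Fact l.Prime] (hl3 : orderOf (q : ZMod l) = 3)

include hl3

theorem l_ne_two (h2 : 2 ∣ q) : l ≠ 2 := by
  rintro rfl
  have h1 : ((q : ℕ) : ZMod 2) = 0 := (ZMod.natCast_eq_zero_iff _ _).2 h2
  have h3 := pow_orderOf_eq_one ((q : ℕ) : ZMod 2)
  rw [hl3, h1] at h3
  exact zero_ne_one (α := ZMod 2) (by rw [← h3, zero_pow three_ne_zero])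

theorem not_dvd_sub_one : ¬ l ∣ q - 1 := by
  intro h
  have hq1 : 1 ≤ q := hq.one_lt.le
  have h1 : (q : ZMod l) = 1 := by
    have := (ZMod.natCast_eq_zero_iff _ _).2 h
    rw [Nat.cast_sub hq1, Nat.cast_one, sub_eq_zero] at this
    exact this
  rw [h1, orderOf_one] at hl3
  omega

theorem zp_eq [CharP K 2] {a a' : ↥(twistedD4 K q)} (ha : a ∈ T K q) (hao : orderOf a = l) (ha' : a' ∈ T K q)
    (hao' : orderOf a' = l) : Subgroup.zpowers a = Subgroup.zpowers a' := by
  obtain ⟨d, hd, hdo⟩ := exists_gen hq hK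
  have hpos : 0 < q ^ 3 - 1 := by
    have := Nat.one_lt_pow (n := 3) (by norm_num) hq.one_lt
    omega
  exact zp_eq_of H115.HC.TwDFour.T_comm hpos (H69.OutTwD4.card_T hq hK) hd hdo hl.out
    (not_dvd_sub_one hq hK hl3) ha hao ha' hao'

/-- an element of order `l` commuting with an involution is conjugate into `T` -/
theorem conj_T [CharP K 2] {a t : ↥(twistedD4 K q)} (hao : orderOf a = l) (ht : orderOf t = 2)
    (hat : a * t = t * a) : ∃ g, g⁻¹ * a * g ∈ T K q := by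
  have : Fact (Nat.Prime 2) := ⟨Nat.prime_two⟩
  obtain ⟨φ, hφ⟩ := D4Fixed.exists_frob hq hK
  have hfin : Finite CoxeterMatrix.G₂.Group := Cfsg.Agent.Nodes.RGDFold.finite_W (hp := Cfsg.Agent.Nodes.RGDTwD4.hp) cs
    isCartan foldData
  have R := rgd' hK hφ 2
  have hG1 : Nodes.RGDLib.G1 cs isCartan (X φ q) = ⊤ := G1_eq_top cs hK hφ
  have hF := KFacts.RgdFiltTwAll.filt_fold cs isCartan foldData (foldGrp hφ (D4Fixed.twisted_le_fix hK hφ)) 2
  have h2q : 2 ∣ q := by
    obtain ⟨p, k, hp, hk, rfl⟩ := hq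
    have hp' := hp.nat_prime
    have h1 : 2 ∣ Fintype.card K := by
      rw [← CharP.cast_eq_zero_iff K 2, FiniteField.cast_card_eq_zero]
    rw [hK, ← pow_mul] at h1
    have h2 := (Nat.prime_dvd_prime_iff_eq Nat.prime_two hp').1 (Nat.prime_two.dvd_of_dvd_pow h1)
    rw [← h2]
    exact dvd_pow_self _ hk.ne'
  have hl2 := l_ne_two hq hK hl3 h2q
  have hpg : IsPGroup 2 ↥(Subgroup.zpowers t) :=
    IsPGroup.of_card (n := 1) (by rw [Nat.card_zpowers, ht, pow_one])
  have hne : Subgroup.zpowers t ≠ ⊥ := by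
    intro h1
    have h2 : t = 1 := by rwa [Subgroup.zpowers_eq_bot] at h1
    rw [h2, orderOf_one] at ht
    omega
  obtain ⟨g, J, hJ, -, hN⟩ := KFacts.RgdFilt.borel_tits_of_filt hF hG1 hpg hne
  obtain ⟨i, hi⟩ : ∃ i : Fin 2, J ⊆ {i} := by
    by_contra hcon
    push Not at hcon
    apply hJ
    rw [Set.eq_univ_iff_forall]
    intro j
    by_contra hj
    obtain ⟨k, hk, hk'⟩ := Set.not_subset.1 (hcon (1 - j))
    apply hk'
    rw [Set.mem_singleton_iff]
    have : k ≠ j := fun h => hj (h ▸ hk)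
    fin_cases j <;> fin_cases k <;> first | rfl | exact absurd rfl this
  have hPJ : PJ cs isCartan (T K q) (X φ q) J ≤ PJ cs isCartan (T K q) (X φ q) {i} := Cfsg.Agent.BiChar.RankPar.PJ_mono hi
  have ha1 : a ∈ cj g (PJ cs isCartan (T K q) (X φ q) {i}) := by
    refine cj_mono g hPJ (hN ((Subgroup.centralizer_le_normalizer _) ?_))
    rw [Subgroup.mem_centralizer_iff]
    rintro _ ⟨k, rfl⟩
    exact ((Commute.zpow_right (show Commute a t from hat) k).symm).eq
  rw [mem_cj] at ha1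
  have hq1 : (q : ZMod l) ≠ -1 := by
    intro h
    have h1 := orderOf_dvd_of_pow_eq_one (show (q : ZMod l) ^ 2 = 1 by rw [h]; ring)
    rw [hl3] at h1
    omega
  have hq3 : (q : ZMod l) ^ 3 = 1 := by rw [← hl3]; exact pow_orderOf_eq_one _
  have hi' : ¬ l ∣ 1 + Nat.card (X φ q (sr i)) := by
    have h01 : i = 0 ∨ i = 1 := by fin_cases i <;> simp
    rcases h01 with rfl | rfl
    · rw [card_X0 hK hφ hq]
      intro h
      have h1 := (ZMod.natCast_eq_zero_iff _ _).2 h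
      push_cast at h1
      exact hq1 (by linear_combination h1)
    · rw [card_X1 hK hφ]
      intro h
      have h1 := (ZMod.natCast_eq_zero_iff _ _).2 h
      push_cast at h1
      rw [hq3] at h1
      have h3 : ((2 : ℕ) : ZMod l) = 0 := by
        push_cast
        linear_combination h1
      exact hl2 ((Nat.prime_dvd_prime_iff_eq hl.out Nat.prime_two).1 ((ZMod.natCast_eq_zero_iff _ _).1 h3))
  obtain ⟨y, -, hy⟩ := exists_conj_mem_of_relIndex (not_dvd_relIndex R hl.out hl2.symm i hi') ha1 (by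
    have e : g⁻¹ * a * g = MulAut.conj g⁻¹ a := by rw [MulAut.conj_apply, inv_inv]
    rw [e, MulEquiv.orderOf_eq, hao])
  refine ⟨g * y, ?_⟩
  have e : (g * y)⁻¹ * a * (g * y) = y⁻¹ * (g⁻¹ * a * g) * y := by group
  rw [e]
  exact hy

/-- **Two elements of order `l` commuting with involutions generate conjugate subgroups.** -/
theorem conj_zp [CharP K 2] {a t a' t' : ↥(twistedD4 K q)} (hao : orderOf a = l) (ht : orderOf t = 2)
    (hat : a * t = t * a) (hao' : orderOf a' = l) (ht' : orderOf t' = 2) (hat' : a' * t' = t' * a') :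
    ∃ g, Subgroup.zpowers (g * a * g⁻¹) = Subgroup.zpowers a' := by
  obtain ⟨g, hg⟩ := conj_T hq hK hl3 hao ht hat
  obtain ⟨g', hg'⟩ := conj_T hq hK hl3 hao' ht' hat'
  have ho : ∀ (x y : ↥(twistedD4 K q)), orderOf (x⁻¹ * y * x) = orderOf y := by
    intro x y
    have e : x⁻¹ * y * x = MulAut.conj x⁻¹ y := by rw [MulAut.conj_apply, inv_inv]
    rw [e, MulEquiv.orderOf_eq]
  have h1 := zp_eq hq hK hl3 hg (by rw [ho, hao]) hg' (by rw [ho, hao'])
  refine ⟨g' * g⁻¹, ?_⟩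
  have h2 : ∀ (x y : ↥(twistedD4 K q)), Subgroup.zpowers (MulAut.conj x y) =
      (Subgroup.zpowers y).map (MulAut.conj x).toMonoidHom := fun x y =>
    ((MulAut.conj x).toMonoidHom.map_zpowers y).symm
  have h3 : (Subgroup.zpowers (g⁻¹ * a * g)).map (MulAut.conj g').toMonoidHom =
      (Subgroup.zpowers (g'⁻¹ * a' * g')).map (MulAut.conj g').toMonoidHom := by rw [h1]
  rw [← h2, ← h2, MulAut.conj_apply, MulAut.conj_apply] at h3
  have e1 : g' * (g⁻¹ * a * g) * g'⁻¹ = g' * g⁻¹ * a * (g' * g⁻¹)⁻¹ := by group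
  have e2 : g' * (g'⁻¹ * a' * g') * g'⁻¹ = a' := by group
  rw [e1, e2] at h3
  exact h3

end TwD4

end Cfsg.Agent.H81.Spr
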