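import Cfsg.Agent.H81.Spr.FixB
import Cfsg.Agent.H81.Spr.TwR
import Cfsg.Agent.H81.Spr.TopOf
import Cfsg.Agent.H39.F4E.FixX
import Cfsg.Agent.H436.Names
import Cfsg.Agent.Lib.Zsigmondy
import Cfsg.Agent.S2378
import Cfsg.Agent.S1067

/-!
# `³D₄(q)` in `F₄(q)`, `q` even, fixes two-dimensional subspaces (helper81, S3938)
-/

set_option autoImplicit false
set_option linter.unusedSectionVars false

namespace Cfsg.Agent.H81.Spr

open Cfsg Cfsg.Lie Module
open Cfsg.Agent.H952.F4 (ev)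

/-! ### linear algebra -/

section Lin

variable {F V Y : Type*} [Field F] [Fintype F] [AddCommGroup V] [Module F V] [FiniteDimensional F V] [Group Y]

/-- the number of automorphisms of a space of dimension 2 -/
theorem card_units {q : ℕ} (hq : Fintype.card F = q) (h2 : finrank F V = 2) :
    Nat.card (V →ₗ[F] V)ˣ = (q ^ 2 - 1) * (q ^ 2 - q) := by
  let b := Module.finBasisOfFinrankEq F V h2
  have h1 : Nat.card (V →ₗ[F] V)ˣ = Nat.card (GL (Fin 2) F) :=
    Nat.card_congr (Units.mapEquiv (LinearMap.toMatrixAlgEquiv b).toMulEquiv).toEquiv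
  rw [h1, Matrix.card_GL_field, Fin.prod_univ_two, hq]
  simp

/-- the stabilizer of a subspace -/
def stab (ρ : Representation F Y V) (W : Submodule F V) : Subgroup Y where
  carrier := {s | ∀ v, ρ s v ∈ W ↔ v ∈ W}
  one_mem' := fun v => by rw [map_one, Module.End.one_apply]
  mul_mem' := by
    intro a b ha hb v
    rw [map_mul, Module.End.mul_apply, ha, hb]
  inv_mem' := by
    intro a ha v
    rw [← ha (ρ a⁻¹ v), ← Module.End.mul_apply, ← map_mul, mul_inv_cancel, map_one, Module.End.one_apply]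

/-- the action of the stabilizer -/
def res (ρ : Representation F Y V) (W : Submodule F V) : ↥(stab ρ W) →* (W →ₗ[F] W) where
  toFun s := (ρ s.1).restrict fun v hv => (s.2 v).2 hv
  map_one' := by
    ext v
    show ρ 1 v.1 = v.1
    rw [map_one, Module.End.one_apply]
  map_mul' := by
    intro a b
    ext v
    show ρ (a.1 * b.1) v.1 = ρ a.1 (ρ b.1 v.1)
    rw [map_mul, Module.End.mul_apply]

theorem mem_es {ρ : Representation F Y V} {x : Y} {v : V} : v ∈ Module.End.eigenspace (ρ x) 1 ↔ ρ x v = v := by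
  rw [Module.End.mem_eigenspace_iff, one_smul]

/-- commuting elements stabilize the spaces of fixed points -/
theorem mem_stab_of_comm {ρ : Representation F Y V} {x u : Y} (h : u * x = x * u) :
    u ∈ stab ρ (Module.End.eigenspace (ρ x) 1) := by
  intro v
  rw [mem_es, mem_es, ← Module.End.mul_apply, ← map_mul, ← h, map_mul, Module.End.mul_apply]
  constructor
  · intro h1
    have h2 := congrArg (ρ u⁻¹) h1
    rwa [← Module.End.mul_apply, ← Module.End.mul_apply (ρ u⁻¹), ← map_mul, inv_mul_cancel, map_one,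
      Module.End.one_apply, Module.End.one_apply] at h2
  · intro h1
    rw [h1]

/-- the fixed points depend only on the cyclic subgroup -/
theorem es_eq {ρ : Representation F Y V} {x y : Y} (h : Subgroup.zpowers x = Subgroup.zpowers y) :
    Module.End.eigenspace (ρ x) 1 = Module.End.eigenspace (ρ y) 1 := by
  have key : ∀ x y : Y, y ∈ Subgroup.zpowers x → Module.End.eigenspace (ρ x) 1 ≤ Module.End.eigenspace (ρ y) 1 := by
    intro x y hy v hv
    rw [mem_es] at hv ⊢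
    let S : Subgroup Y :=
      { carrier := {s | ρ s v = v}
        one_mem' := by
          show ρ 1 v = v
          rw [map_one, Module.End.one_apply]
        mul_mem' := by
          intro a b ha hb
          show ρ (a * b) v = v
          rw [map_mul, Module.End.mul_apply, show ρ b v = v from hb, show ρ a v = v from ha]
        inv_mem' := by
          intro a ha
          show ρ a⁻¹ v = v
          have h1 := congrArg (ρ a⁻¹) (show ρ a v = v from ha)
          rw [← Module.End.mul_apply, ← map_mul, inv_mul_cancel, map_one, Module.End.one_apply] at h1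
          exact h1.symm }
    have h1 : Subgroup.zpowers x ≤ S := Subgroup.zpowers_le.2 hv
    exact h1 hy
  exact le_antisymm (key x y (h ▸ Subgroup.mem_zpowers y)) (key y x (h ▸ Subgroup.mem_zpowers x))

/-- an element of order prime to `|GL₂(q)|` acts trivially on an invariant subspace of dimension 2 -/
theorem le_es {q : ℕ} (hq : Fintype.card F = q) {ρ : Representation F Y V} {W : Submodule F V}
    (hW : finrank F ↥W = 2) {a : Y} {l : ℕ} (hl : l.Prime) (hlq : ¬ l ∣ (q ^ 2 - 1) * (q ^ 2 - q)) (hal : a ^ l = 1)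
    (ha : a ∈ stab ρ W) : W ≤ Module.End.eigenspace (ρ a) 1 := by
  intro v hv
  rw [mem_es]
  let τ : ↥(stab ρ W) →* (W →ₗ[F] W)ˣ := (res ρ W).toHomUnits
  have h1 : τ ⟨a, ha⟩ ^ l = 1 := by
    rw [← map_pow]
    have : (⟨a, ha⟩ : ↥(stab ρ W)) ^ l = 1 := Subtype.ext hal
    rw [this, map_one]
  have hfin : Finite (W →ₗ[F] W)ˣ := Nat.finite_of_card_ne_zero (by
    rw [card_units hq hW]
    intro h0
    exact hlq (h0 ▸ dvd_zero l))
  have h2 : τ ⟨a, ha⟩ ^ Nat.card (W →ₗ[F] W)ˣ = 1 := pow_card_eq_one'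
  have h3 : τ ⟨a, ha⟩ = 1 := by
    have hco : Nat.Coprime l (Nat.card (W →ₗ[F] W)ˣ) := by
      rw [card_units hq hW]
      exact (Nat.Prime.coprime_iff_not_dvd hl).2 hlq
    have h4 := Nat.dvd_gcd (orderOf_dvd_of_pow_eq_one h1) (orderOf_dvd_of_pow_eq_one h2)
    rw [hco] at h4
    exact orderOf_eq_one_iff.1 (Nat.dvd_one.1 h4)
  have h5 : (res ρ W) ⟨a, ha⟩ = 1 := congrArg Units.val h3
  have h6 := congrArg (fun T : W →ₗ[F] W => ((T ⟨v, hv⟩ : W) : V)) h5
  exact h6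

/-- an involution in a nontrivial cyclic 2-subgroup -/
theorem exists_inv {u : Y} (hu : u ≠ 1) (h : ∃ j, u ^ 2 ^ j = 1) : ∃ t ∈ Subgroup.zpowers u, orderOf t = 2 := by
  obtain ⟨j, hj⟩ := h
  have h1 := orderOf_dvd_of_pow_eq_one hj
  obtain ⟨k, -, hk⟩ := (Nat.dvd_prime_pow Nat.prime_two).1 h1
  have hk0 : k ≠ 0 := by
    rintro rfl
    exact hu (orderOf_eq_one_iff.1 (by rw [hk, pow_zero]))
  refine ⟨u ^ 2 ^ (k - 1), Subgroup.pow_mem _ (Subgroup.mem_zpowers u) _, ?_⟩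
  rw [orderOf_pow_of_dvd (by positivity) (by rw [hk]; exact pow_dvd_pow 2 (by omega)), hk]
  rw [Nat.pow_div (by omega) (by norm_num)]
  have : k - (k - 1) = 1 := by omega
  rw [this, pow_one]

/-- **The argument.** -/
theorem trivial_on [Finite Y] [IsSimpleGroup Y] {q : ℕ} (hq : Fintype.card F = q) {ρ : Representation F Y V} {l : ℕ}
    (hl : l.Prime) (hlq : ¬ l ∣ (q ^ 2 - 1) * (q ^ 2 - q)) {x₀ : Y} (hx₀ : orderOf x₀ = l)
    (h2 : ev (ρ x₀) 1 = 2)
    (hconj : ∀ a t, orderOf a = l → orderOf t = 2 → a * t = t * a →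
      ∃ g, Subgroup.zpowers (g * x₀ * g⁻¹) = Subgroup.zpowers a)
    {E : Subgroup Y} (hEl : ∀ a ∈ E, a ^ l = 1) {g : Y} (hcomm : ∀ a ∈ E, (g * a * g⁻¹) * x₀ = x₀ * (g * a * g⁻¹))
    (htop : ∀ H : Subgroup Y, (∀ u : Y, (∃ j, u ^ 2 ^ j = 1) → u * x₀ = x₀ * u → u ∈ H) →
      (∀ a ∈ E, a ≠ 1 → ∀ u : Y, (∃ j, u ^ 2 ^ j = 1) → u * (g * a * g⁻¹) = (g * a * g⁻¹) * u → u ∈ H) → H = ⊤)
    (s : Y) {v : V} (hv : ρ x₀ v = v) : ρ s v = v := by
  set W := Module.End.eigenspace (ρ x₀) 1 with hW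
  have hW2 : finrank F ↥W = 2 := h2
  have hH : stab ρ W = ⊤ := by
    refine htop _ (fun u _ hu => mem_stab_of_comm hu) ?_
    intro a ha ha1 u hu hc
    by_cases hu1 : u = 1
    · rw [hu1]; exact one_mem _
    obtain ⟨t, ht, hto⟩ := exists_inv hu1 hu
    have hta : (g * a * g⁻¹) * t = t * (g * a * g⁻¹) := by
      have h3 : Commute (g * a * g⁻¹) u := hc.symm
      obtain ⟨k, rfl⟩ := Subgroup.mem_zpowers_iff.1 ht
      exact (h3.zpow_right k).eq
    have hal : (g * a * g⁻¹) ^ l = 1 := by rw [conj_pow, hEl a ha, mul_one, mul_inv_cancel]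
    have hao : orderOf (g * a * g⁻¹) = l := by
      have : Fact l.Prime := ⟨hl⟩
      refine orderOf_eq_prime hal fun h => ha1 ?_
      exact conj_eq_one_iff.1 h
    obtain ⟨y, hy⟩ := hconj _ t hao hto hta
    have h3 : finrank F ↥(Module.End.eigenspace (ρ (g * a * g⁻¹)) 1) = 2 := by
      rw [← es_eq hy]
      have h4 := Cfsg.Agent.H952.F4.TabLin.ev_conj ρ y x₀ (1 : F)
      unfold ev at h4 h2
      rw [h4, h2]
    have h4 : W ≤ Module.End.eigenspace (ρ (g * a * g⁻¹)) 1 := le_es hq hW2 hl hlq hal (mem_stab_of_comm (hcomm a ha))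
    have h5 : W = Module.End.eigenspace (ρ (g * a * g⁻¹)) 1 := Submodule.eq_of_le_of_finrank_eq h4 (by rw [hW2, h3])
    rw [h5]
    exact mem_stab_of_comm hc
  -- the kernel
  have hmem : ∀ s, s ∈ stab ρ W := fun s => hH ▸ Subgroup.mem_top s
  let τ : Y →* (W →ₗ[F] W) := (res ρ W).comp
    { toFun := fun s => ⟨s, hmem s⟩
      map_one' := rfl
      map_mul' := fun _ _ => rfl }
  have hker : τ.ker = ⊤ := by
    rcases (inferInstance : τ.ker.Normal).eq_bot_or_eq_top with h | h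
    · exfalso
      have h3 : x₀ ∈ τ.ker := by
        rw [MonoidHom.mem_ker]
        ext w
        show ρ x₀ w.1 = w.1
        exact mem_es.1 w.2
      rw [h, Subgroup.mem_bot] at h3
      rw [h3, orderOf_one] at hx₀
      exact hl.one_lt.ne hx₀
    · exact h
  have h3 : s ∈ τ.ker := hker ▸ Subgroup.mem_top s
  have h4 := (MonoidHom.mem_ker).1 h3
  have h5 := congrArg (fun T : W →ₗ[F] W => ((T ⟨v, mem_es.2 hv⟩ : W) : V)) h4
  exact h5

end Lin

/-! ### Sylow subgroups -/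

section Syl

variable {l : ℕ} [hl : Fact l.Prime]

/-- the elements of order dividing `l` of `(ℤ / l ^ c) ^ 2` -/
theorem exists_elem {Y : Type*} [Group Y] {P : Subgroup Y} {c : ℕ} (hc : c ≠ 0)
    (e : ↥P ≃* (Fin 2 → Multiplicative (ZMod (l ^ c)))) :
    ∃ E : Subgroup Y, IsElementaryAbelian l E ∧ Nat.card ↥E = l ^ 2 := by
  have : NeZero (l ^ c) := ⟨pow_ne_zero _ hl.out.ne_zero⟩
  obtain ⟨w, hw⟩ := exists_prime_orderOf_dvd_card' (G := Multiplicative (ZMod (l ^ c))) l (by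
    rw [Nat.card_congr Multiplicative.toAdd, Nat.card_zmod]
    exact dvd_pow_self l hc)
  let f : (Fin 2 → ↥(Subgroup.zpowers w)) →* Y :=
    (P.subtype.comp e.symm.toMonoidHom).comp ((Subgroup.zpowers w).subtype.compLeft (Fin 2))
  have hf : Function.Injective f := by
    intro a b hab
    have h1 := e.symm.injective (Subtype.val_injective hab)
    funext i
    exact Subtype.ext (congrFun h1 i)
  refine ⟨f.range, ⟨⟨⟨?_⟩⟩, ?_⟩, ?_⟩
  · rintro ⟨_, a, rfl⟩ ⟨_, b, rfl⟩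
    apply Subtype.ext
    show f a * f b = f b * f a
    rw [← map_mul, ← map_mul, mul_comm]
  · rintro _ ⟨a, rfl⟩
    rw [← map_pow]
    have : a ^ l = 1 := by
      funext i
      apply Subtype.ext
      obtain ⟨k, hk⟩ := Subgroup.mem_zpowers_iff.1 (a i).2
      have hwl : w ^ l = 1 := orderOf_dvd_iff_pow_eq_one.1 (dvd_of_eq hw)
      show (a i).1 ^ l = 1
      rw [← hk, ← zpow_natCast, ← zpow_mul, mul_comm, zpow_mul, zpow_natCast, hwl, one_zpow]
    rw [this, map_one]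
  · rw [← Nat.card_congr (MonoidHom.ofInjective hf).toEquiv, Nat.card_fun, Nat.card_zpowers, hw, Nat.card_fin]

variable {q : ℕ} (hl3 : orderOf (q : ZMod l) = 3)

include hl3

theorem dvd_iff (hq : 1 ≤ q) (k : ℕ) : l ∣ q ^ k - 1 ↔ 3 ∣ k := by
  rw [← hl3, orderOf_dvd_iff_pow_eq_one, ← ZMod.natCast_eq_zero_iff, Nat.cast_sub (Nat.one_le_pow _ _ hq), Nat.cast_pow,
    Nat.cast_one, sub_eq_zero]

theorem not_dvd_q : ¬ l ∣ q := by
  intro h
  have h1 := (ZMod.natCast_eq_zero_iff _ _).2 h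
  have h3 := pow_orderOf_eq_one ((q : ℕ) : ZMod l)
  rw [hl3, h1] at h3
  exact zero_ne_one (α := ZMod l) (by rw [← h3, zero_pow three_ne_zero])

theorem sylow_facts {F : Type} [Field F] [Fintype F] (h7 : 7 ≤ l) (hF : Fintype.card F = q) {Y : Type*} [Group Y]
    [Finite Y] {f : Y →* ↥(chevF4.group F)} (hf : Function.Injective f)
    (hY : Nat.card Y = q ^ 12 * (q ^ 2 - 1) * (q ^ 6 - 1) * (q ^ 8 + q ^ 4 + 1)) (P : Sylow l Y) :
    ∃ c, c ≠ 0 ∧ Nonempty (↥P ≃* (Fin 2 → Multiplicative (ZMod (l ^ c)))) := by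
  have hq1 : 1 < q := hF ▸ Fintype.one_lt_card
  have hG := S1062.result (F := F) hF
  have hM : Nat.card ↥(chevF4.group F) = Nat.card Y * (q ^ 12 * (q ^ 8 - 1) * (q ^ 4 - 1)) := by
    rw [hG, hY]
    have h2 : 1 ≤ q ^ 2 := Nat.one_le_pow _ _ hq1.le
    have h4 : 1 ≤ q ^ 4 := Nat.one_le_pow _ _ hq1.le
    have h6 : 1 ≤ q ^ 6 := Nat.one_le_pow _ _ hq1.le
    have h8 : 1 ≤ q ^ 8 := Nat.one_le_pow _ _ hq1.le
    have h12 : 1 ≤ q ^ 12 := Nat.one_le_pow _ _ hq1.le
    zify [h2, h4, h6, h8, h12]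
    ring
  have hnM : ¬ l ∣ q ^ 12 * (q ^ 8 - 1) * (q ^ 4 - 1) := by
    rw [hl.out.dvd_mul, hl.out.dvd_mul, dvd_iff hl3 hq1.le, dvd_iff hl3 hq1.le]
    rintro ((h | h) | h)
    · exact not_dvd_q hl3 (hl.out.dvd_of_dvd_pow h)
    · omega
    · omega
  have hM0 : q ^ 12 * (q ^ 8 - 1) * (q ^ 4 - 1) ≠ 0 := fun h => hnM (h ▸ dvd_zero l)
  have hcard : Nat.card ↥((P : Subgroup Y).map f) = l ^ (Nat.card ↥(chevF4.group F)).factorization l := by
    rw [Nat.card_congr (Subgroup.equivMapOfInjective (P : Subgroup Y) f hf).toEquiv.symm, P.card_eq_multiplicity, hM,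
      Nat.factorization_mul Nat.card_pos.ne' hM0, Finsupp.add_apply, Nat.factorization_eq_zero_of_not_dvd hnM, add_zero]
  let Q : Sylow l ↥(chevF4.group F) := Sylow.ofCard ((P : Subgroup Y).map f) hcard
  have hlG : l ∣ Nat.card ↥(chevF4.group F) := by
    rw [hM, hY]
    refine Dvd.dvd.mul_right (Dvd.dvd.mul_right (Dvd.dvd.mul_left ?_ _) _) _
    rw [dvd_iff hl3 hq1.le]
    norm_num
  have hlen : ((([2, 6, 8, 12] : List ℕ)).filter (fun e => orderOf (q : ZMod l) ∣ e)).length = 2 := by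
    rw [hl3]
    decide
  have hev : ((Polynomial.cyclotomic (orderOf (q : ZMod l)) ℤ).eval (q : ℤ)).natAbs = q ^ 2 + q + 1 := by
    rw [hl3, Polynomial.cyclotomic_three]
    simp only [Polynomial.eval_add, Polynomial.eval_pow, Polynomial.eval_X, Polynomial.eval_one]
    exact_mod_cast Int.natAbs_natCast (q ^ 2 + q + 1)
  have gen : ∀ n c : ℕ, n = 2 → c = q ^ 2 + q + 1 →
      Nonempty (↥(Q : Subgroup ↥(chevF4.group F)) ≃* (Fin n → Multiplicative (ZMod (l ^ padicValNat l c)))) →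
      Nonempty (↥(Q : Subgroup ↥(chevF4.group F)) ≃*
        (Fin 2 → Multiplicative (ZMod (l ^ padicValNat l (q ^ 2 + q + 1))))) := by
    rintro _ _ rfl rfl h
    exact h
  obtain ⟨e⟩ := gen _ _ hlen hev (S2378.result hF (chevF4, [2, 6, 8, 12]) (by simp) l (not_dvd_q hl3) (by
    intro h
    have h1 : l ∣ 2 ^ 7 * 3 ^ 2 := by simpa using h
    rcases hl.out.dvd_mul.1 h1 with h2 | h2
    · have := Nat.le_of_dvd (by norm_num) (hl.out.dvd_of_dvd_pow h2)
      omega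
    · have := Nat.le_of_dvd (by norm_num) (hl.out.dvd_of_dvd_pow h2)
      omega) hlG Q)
  refine ⟨padicValNat l (q ^ 2 + q + 1), ?_, ⟨(Subgroup.equivMapOfInjective (P : Subgroup Y) f hf).trans e⟩⟩
  have h1 : l ∣ q ^ 2 + q + 1 := by
    have h2 : l ∣ (q - 1) * (q ^ 2 + q + 1) := by
      have h3 : (q - 1) * (q ^ 2 + q + 1) = q ^ 3 - 1 := by
        have h4 : 1 ≤ q ^ 3 := Nat.one_le_pow _ _ hq1.le
        zify [h4, hq1.le]
        ring
      rw [h3, dvd_iff hl3 hq1.le]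
    rcases hl.out.dvd_mul.1 h2 with h3 | h3
    · exfalso
      rw [show q - 1 = q ^ 1 - 1 by rw [pow_one], dvd_iff hl3 hq1.le] at h3
      omega
    · exact h3
  have h2 := one_le_padicValNat_of_dvd (p := l) (n := q ^ 2 + q + 1) (by positivity) h1
  omega

end Syl

/-! ### the theorem -/

open Cfsg.Agent.H952.F4.Two (rhoT) in
/-- **A subgroup `³D₄(q)` of `F₄(q)`, `q` even, `4 ≤ q`, acts trivially on the fixed points of an element `x` in one of the
two modules**, if these have dimension 2 for both modules. -/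
theorem fix_td4_of {F : Type} [Field F] [Fintype F] [CharP F 2] {q : ℕ} (hF : Fintype.card F = q) (h4 : 4 ≤ q)
    {x : ↥(chevF4.group F)} (hX : ∀ b : Bool, ev (rhoT b x) 1 = 2) {S : Subgroup ↥(chevF4.group F)}
    (hS : H436.IsNamed (.td4 q) S) (hxS : x ∈ S) :
    ∃ b : Bool, ∀ g ∈ S, ∀ v, rhoT b x v = v → rhoT b g v = v := by
  obtain ⟨K, _, _, hK, ⟨e⟩⟩ := hS.real
  have hqp : IsPrimePow q := hS.cond
  have : Fact (Nat.Prime 2) := ⟨Nat.prime_two⟩
  have hK2 : CharP K 2 := by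
    obtain ⟨n, -, hn⟩ := FiniteField.card F 2
    have h1 : Fintype.card K = 2 ^ ((n : ℕ) * 3) := by rw [hK, ← hF, hn, pow_mul]
    exact charP_of_card_eq_prime_pow h1
  -- the prime
  obtain ⟨l, hl, hd, hl1, -⟩ := Lib.Zsigmondy.exists_primitive (a := q) (n := 3) (by omega) (by norm_num)
    (by omega) (by omega)
  have hlf : Fact l.Prime := ⟨hl⟩
  have h7 : 7 ≤ l := by
    have h2 := hl.two_le
    have h3 : l ≠ 4 := by
      rintro rfl
      exact absurd hl (by norm_num)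
    omega
  have hq1 : 1 ≤ q := by omega
  have hkey : ∀ m, (q : ZMod l) ^ m = 1 ↔ 3 ∣ m := by
    intro m
    rw [← hd m, ← ZMod.natCast_eq_zero_iff, Nat.cast_sub (Nat.one_le_pow _ _ hq1)]
    push_cast
    rw [sub_eq_zero]
  have hl3 : orderOf (q : ZMod l) = 3 := by
    apply Nat.dvd_antisymm
    · rw [orderOf_dvd_iff_pow_eq_one, hkey]
    · rw [← hkey, pow_orderOf_eq_one]
  have hlq : ¬ l ∣ (q ^ 2 - 1) * (q ^ 2 - q) := by
    have h1 : q ^ 2 - q = q * (q ^ 1 - 1) := by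
      rw [pow_one, Nat.mul_sub, mul_one, pow_two]
    rw [h1, hl.dvd_mul, hl.dvd_mul, hd, hd]
    rintro (h | h | h)
    · omega
    · exact not_dvd_q hl3 h
    · omega
  -- the group
  have hsim : IsSimpleGroup ↥(twistedD4 K q) := (S1071.result hqp hK).1
  have hfin : Finite ↥(twistedD4 K q) := Finite.of_equiv S e.toEquiv
  let f : ↥(twistedD4 K q) →* ↥(chevF4.group F) := S.subtype.comp e.symm.toMonoidHom
  have hf : Function.Injective f := fun a b hab => e.symm.injective (Subtype.val_injective hab)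
  have hsyl := fun P : Sylow l ↥(twistedD4 K q) => sylow_facts hl3 h7 hF hf (S1067.result hqp hK) P
  obtain ⟨E₀, hE₀, hE₀c⟩ : ∃ E₀ : Subgroup ↥(twistedD4 K q), IsElementaryAbelian l E₀ ∧ Nat.card ↥E₀ = l ^ 2 := by
    obtain ⟨P⟩ : Nonempty (Sylow l ↥(twistedD4 K q)) := inferInstance
    obtain ⟨c, hc, ⟨e'⟩⟩ := hsyl P
    exact exists_elem hc e'
  obtain ⟨x₀, E, hx₀, ⟨u₀, hu₀, hu₀j, hu₀c⟩, hEl, hEc, htop⟩ :=
    top_twD4 (r := 2) (p := l) hqp hK (by omega) (by omega) (by omega) hE₀ hE₀c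
  obtain ⟨t₀, ht₀, ht₀o⟩ := exists_inv hu₀ hu₀j
  have ht₀c : x₀ * t₀ = t₀ * x₀ := by
    have h3 : Commute x₀ u₀ := hu₀c.symm
    obtain ⟨k, rfl⟩ := Subgroup.mem_zpowers_iff.1 ht₀
    exact (h3.zpow_right k).eq
  -- a conjugate of `E` commutes with `x₀`
  obtain ⟨g, hg⟩ : ∃ g, ∀ a ∈ E, (g * a * g⁻¹) * x₀ = x₀ * (g * a * g⁻¹) := by
    have h1 : IsPGroup l ↥(Subgroup.zpowers x₀) :=
      IsPGroup.of_card (n := 1) (by rw [Nat.card_zpowers, hx₀, pow_one])
    obtain ⟨P₁, hP₁⟩ := h1.exists_le_sylow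
    obtain ⟨P₂, hP₂⟩ := (IsPGroup.of_card (n := 2) hEc).exists_le_sylow
    obtain ⟨g, hg⟩ := MulAction.exists_smul_eq ↥(twistedD4 K q) P₂ P₁
    obtain ⟨c, -, ⟨e'⟩⟩ := hsyl P₁
    have hab : ∀ a ∈ P₁, ∀ b ∈ P₁, a * b = b * a := by
      intro a ha b hb
      have h2 : (⟨a, ha⟩ : ↥P₁) * ⟨b, hb⟩ = ⟨b, hb⟩ * ⟨a, ha⟩ := by
        apply e'.injective
        rw [map_mul, map_mul, mul_comm]
      exact congrArg Subtype.val h2
    refine ⟨g, fun a ha => hab _ ?_ _ (hP₁ (Subgroup.mem_zpowers x₀))⟩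
    rw [← hg]
    exact Subgroup.mem_map.2 ⟨a, hP₂ ha, rfl⟩
  -- the module
  obtain ⟨b, hb⟩ := ev_two hF (by omega) hl3 (x := f x₀) (by rw [orderOf_injective f hf, hx₀])
  refine ⟨b, ?_⟩
  have key := trivial_on (ρ := (rhoT b).comp f) hF hl hlq hx₀ hb
    (fun a t hao hto hat => conj_zp hqp hK hl3 hx₀ ht₀o ht₀c hao hto hat) hEl hg (fun H h1 h2 => htop g H h1 h2)
  have hWx : Module.End.eigenspace (rhoT b (f x₀)) 1 = Module.End.eigenspace (rhoT b x) 1 := by
    refine Submodule.eq_of_le_of_finrank_eq ?_ ?_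
    · intro v hv
      rw [mem_es] at hv ⊢
      have h1 := key (e ⟨x, hxS⟩) hv
      have h2 : f (e ⟨x, hxS⟩) = x := by
        show ((e.symm (e ⟨x, hxS⟩) : ↥S) : ↥(chevF4.group F)) = x
        rw [e.symm_apply_apply]
      have h3 : rhoT b (f (e ⟨x, hxS⟩)) v = v := h1
      rwa [h2] at h3
    · exact hb.trans (hX b).symm
  intro s hs v hv
  have h1 : rhoT b (f x₀) v = v := mem_es.1 (hWx ▸ mem_es.2 hv)
  have h2 := key (e ⟨s, hs⟩) h1
  have h3 : f (e ⟨s, hs⟩) = s := by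
    show ((e.symm (e ⟨s, hs⟩) : ↥S) : ↥(chevF4.group F)) = s
    rw [e.symm_apply_apply]
  have h4 : rhoT b (f (e ⟨s, hs⟩)) v = v := h2
  rwa [h3] at h4

open Cfsg.Agent.H952.F4.Two (rhoT) in
/-- **A subgroup `³D₄(q)` of `F₄(q)`, `q` even, `4 ≤ q`, acts trivially on the fixed points of an element `x` of order
`q ^ 4 - q ^ 2 + 1` in one of the two modules.** -/
theorem fix_td4 {F : Type} [Field F] [Fintype F] [CharP F 2] {q : ℕ} (hF : Fintype.card F = q) (h4 : 4 ≤ q)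
    (x : ↥(chevF4.group F)) (hx : orderOf x = q ^ 4 - q ^ 2 + 1) (S : Subgroup ↥(chevF4.group F))
    (hS : H436.IsNamed (.td4 q) S) (hxS : x ∈ S) :
    ∃ b : Bool, ∀ g ∈ S, ∀ v, rhoT b x v = v → rhoT b g v = v := by
  refine fix_td4_of hF h4 (fun b => H39.F4E.ev_two hF ?_ (hx ▸ pow_orderOf_eq_one x) b) hS hxS
  rintro rfl
  rw [orderOf_one] at hx
  have : q ^ 2 < q ^ 4 := Nat.pow_lt_pow_right (by omega) (by norm_num)
  omega

end Cfsg.Agent.H81.Spr
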