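import Cfsg.Agent.H927.F4Two
import Cfsg.Agent.H952.F4.EigFrob

/-!
# Elements of order `r` of `F₄(q)`, `q` even, `q` of order 3 modulo `r` (helper81, S3938)

* `cert` : a long root, three short positive roots in the kernel and `Q = 0` give `0`;
* `three_dvd` : the number of nonzero values is divisible by 3;
* `ev_two` : one of the two modules has a two-dimensional space of fixed points.
-/

set_option autoImplicit false
set_option linter.unusedSimpArgs false
set_option linter.unusedSectionVars false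

namespace Cfsg.Agent.H81.Spr

open Cfsg Cfsg.Lie Module
open Cfsg.Agent.ChevalleyStructure Cfsg.Agent.ChevalleyStructure.Elts Cfsg.Agent.ChevalleyStructure.RootVecTab
open Cfsg.Agent.ChevalleyStructure.RootVec
open Cfsg.Agent.GpExc.Field (emb coe_emb coe_glMap emb_injective)
open Cfsg.Agent.H952.F4 hiding sh
open Cfsg.Agent.H952.F4.TabNum Cfsg.Agent.H952.F4.TabLin Cfsg.Agent.H952.F4.TabMult
open Cfsg.Agent.H412.OT (pr chi)
open Cfsg.Agent.ChevalleyStructure.NPerm (permHom)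
open Cfsg.Agent.H969.TwF (sh)
open Cfsg.Agent.H927.F4Two

universe u

/-! ### the certificate -/

/-- the three by three minors -/
def dd (a b c : Fin 4 → ℤ) (i j k : Fin 4) : ℤ :=
  a i * (b j * c k - b k * c j) - a j * (b i * c k - b k * c i) + a k * (b i * c j - b j * c i)

/-- the vector product -/
def cr (a b c : Fin 4 → ℤ) : Fin 4 → ℤ := ![dd a b c 1 2 3, -dd a b c 0 2 3, dd a b c 0 1 3, -dd a b c 0 1 2]

/-- the invariant quadratic form -/
def qf {R : Type*} [CommRing R] (x : Fin 4 → R) : R :=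
  (2 * x 0 + 3 * x 1 + 2 * x 2 + x 3) ^ 2 + (x 1 + x 2 + x 3) ^ 2 + (x 1 + x 2) ^ 2 + x 1 ^ 2

/-- the form of a vector -/
def lin {R : Type*} [CommRing R] (a : Fin 4 → ℤ) (x : Fin 4 → R) : R :=
  a 0 * x 0 + a 1 * x 1 + a 2 * x 2 + a 3 * x 3

section Minor

variable (a b c : Fin 4 → ℤ)

theorem cr0 : cr a b c 0 = dd a b c 1 2 3 := rfl

theorem cr1 : cr a b c 1 = -dd a b c 0 2 3 := rfl

theorem cr2 : cr a b c 2 = dd a b c 0 1 3 := rfl

theorem cr3 : cr a b c 3 = -dd a b c 0 1 2 := rfl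

end Minor

theorem minor {R : Type*} [CommRing R] {a b c : Fin 4 → ℤ} {x : Fin 4 → R} (ha : lin a x = 0) (hb : lin b x = 0)
    (hc : lin c x = 0) (i j : Fin 4) : x i * ((cr a b c j : ℤ) : R) = x j * ((cr a b c i : ℤ) : R) := by
  simp only [lin] at ha hb hc
  have h01 : x 0 * ((cr a b c 1 : ℤ) : R) = x 1 * ((cr a b c 0 : ℤ) : R) := by
    simp only [cr0, cr1, cr2, cr3, dd]
    push_cast
    linear_combination (-1 : R) * ((((b 2 : ℤ) : R) * ((c 3 : ℤ) : R) - ((b 3 : ℤ) : R) * ((c 2 : ℤ) : R)) * ha - (((a 2 : ℤ) : R) * ((c 3 : ℤ) : R) - ((a 3 : ℤ) : R) * ((c 2 : ℤ) : R)) * hb +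
      (((a 2 : ℤ) : R) * ((b 3 : ℤ) : R) - ((a 3 : ℤ) : R) * ((b 2 : ℤ) : R)) * hc)
  have h02 : x 0 * ((cr a b c 2 : ℤ) : R) = x 2 * ((cr a b c 0 : ℤ) : R) := by
    simp only [cr0, cr1, cr2, cr3, dd]
    push_cast
    linear_combination ((((b 1 : ℤ) : R) * ((c 3 : ℤ) : R) - ((b 3 : ℤ) : R) * ((c 1 : ℤ) : R)) * ha - (((a 1 : ℤ) : R) * ((c 3 : ℤ) : R) - ((a 3 : ℤ) : R) * ((c 1 : ℤ) : R)) * hb +
      (((a 1 : ℤ) : R) * ((b 3 : ℤ) : R) - ((a 3 : ℤ) : R) * ((b 1 : ℤ) : R)) * hc)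
  have h03 : x 0 * ((cr a b c 3 : ℤ) : R) = x 3 * ((cr a b c 0 : ℤ) : R) := by
    simp only [cr0, cr1, cr2, cr3, dd]
    push_cast
    linear_combination (-1 : R) * ((((b 1 : ℤ) : R) * ((c 2 : ℤ) : R) - ((b 2 : ℤ) : R) * ((c 1 : ℤ) : R)) * ha - (((a 1 : ℤ) : R) * ((c 2 : ℤ) : R) - ((a 2 : ℤ) : R) * ((c 1 : ℤ) : R)) * hb +
      (((a 1 : ℤ) : R) * ((b 2 : ℤ) : R) - ((a 2 : ℤ) : R) * ((b 1 : ℤ) : R)) * hc)
  have h12 : x 1 * ((cr a b c 2 : ℤ) : R) = x 2 * ((cr a b c 1 : ℤ) : R) := by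
    simp only [cr0, cr1, cr2, cr3, dd]
    push_cast
    linear_combination (-1 : R) * ((((b 0 : ℤ) : R) * ((c 3 : ℤ) : R) - ((b 3 : ℤ) : R) * ((c 0 : ℤ) : R)) * ha - (((a 0 : ℤ) : R) * ((c 3 : ℤ) : R) - ((a 3 : ℤ) : R) * ((c 0 : ℤ) : R)) * hb +
      (((a 0 : ℤ) : R) * ((b 3 : ℤ) : R) - ((a 3 : ℤ) : R) * ((b 0 : ℤ) : R)) * hc)
  have h13 : x 1 * ((cr a b c 3 : ℤ) : R) = x 3 * ((cr a b c 1 : ℤ) : R) := by
    simp only [cr0, cr1, cr2, cr3, dd]
    push_cast
    linear_combination ((((b 0 : ℤ) : R) * ((c 2 : ℤ) : R) - ((b 2 : ℤ) : R) * ((c 0 : ℤ) : R)) * ha - (((a 0 : ℤ) : R) * ((c 2 : ℤ) : R) - ((a 2 : ℤ) : R) * ((c 0 : ℤ) : R)) * hb +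
      (((a 0 : ℤ) : R) * ((b 2 : ℤ) : R) - ((a 2 : ℤ) : R) * ((b 0 : ℤ) : R)) * hc)
  have h23 : x 2 * ((cr a b c 3 : ℤ) : R) = x 3 * ((cr a b c 2 : ℤ) : R) := by
    simp only [cr0, cr1, cr2, cr3, dd]
    push_cast
    linear_combination (-1 : R) * ((((b 0 : ℤ) : R) * ((c 1 : ℤ) : R) - ((b 1 : ℤ) : R) * ((c 0 : ℤ) : R)) * ha - (((a 0 : ℤ) : R) * ((c 1 : ℤ) : R) - ((a 1 : ℤ) : R) * ((c 0 : ℤ) : R)) * hb +
      (((a 0 : ℤ) : R) * ((b 1 : ℤ) : R) - ((a 1 : ℤ) : R) * ((b 0 : ℤ) : R)) * hc)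

  fin_cases i <;> fin_cases j <;> first
    | rfl
    | exact h01
    | exact h01.symm
    | exact h02
    | exact h02.symm
    | exact h03
    | exact h03.symm
    | exact h12
    | exact h12.symm
    | exact h13
    | exact h13.symm
    | exact h23
    | exact h23.symm

/-- `v_j ^ 2 Q(x) = x_j ^ 2 Q(v)` -/
theorem qf_prop {R : Type*} [CommRing R] {x v : Fin 4 → R} (h : ∀ i j, x i * v j = x j * v i) (j : Fin 4) :
    v j ^ 2 * qf x = x j ^ 2 * qf v := by
  have e : ∀ i k, v j ^ 2 * (x i * x k) = x j ^ 2 * (v i * v k) := by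
    intro i k
    linear_combination (v j * x k) * h i j + (x j * v i) * h k j
  simp only [qf]
  linear_combination 4 * e 0 0 + 12 * e 0 1 + 8 * e 0 2 + 4 * e 0 3 + 12 * e 1 1 + 16 * e 1 2 + 8 * e 1 3 + 6 * e 2 2 +
    6 * e 2 3 + 2 * e 3 3

theorem qf_cast {R : Type*} [CommRing R] (v : Fin 4 → ℤ) : qf (fun i => ((v i : ℤ) : R)) = ((qf v : ℤ) : R) := by
  simp only [qf]
  push_cast
  ring

/-- the vector product of three vectors of the kernel of an isotropic `x` -/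
theorem eq_zero_of {r : ℕ} [hr : Fact r.Prime] (h5 : 5 ≤ r) {a b c : Fin 4 → ℤ} {x : Fin 4 → ZMod r}
    (ha : lin a x = 0) (hb : lin b x = 0) (hc : lin c x = 0) (hq : qf x = 0) (hd : qf (cr a b c) ∣ 24) : x = 0 := by
  have h1 : ((qf (cr a b c) : ℤ) : ZMod r) ≠ 0 := by
    intro h
    have h2 : (r : ℤ) ∣ 24 := ((ZMod.intCast_zmod_eq_zero_iff_dvd _ _).1 h).trans hd
    have h3 : r ∣ 2 ^ 3 * 3 := by exact_mod_cast h2
    rcases hr.out.dvd_mul.1 h3 with h4 | h4
    · have := Nat.le_of_dvd (by norm_num) (hr.out.dvd_of_dvd_pow h4)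
      omega
    · have := Nat.le_of_dvd (by norm_num) h4
      omega
  funext j
  have h2 := qf_prop (x := x) (v := fun i => ((cr a b c i : ℤ) : ZMod r)) (minor ha hb hc) j
  rw [hq, mul_zero, qf_cast] at h2
  have h3 := (mul_eq_zero.1 h2.symm).resolve_right h1
  exact pow_eq_zero_iff two_ne_zero |>.1 h3

/-! ### the roots -/

/-- the coefficients of a tuple -/
def vt (a : ℤ × ℤ × ℤ × ℤ) : Fin 4 → ℤ := ![a.1, a.2.1, a.2.2.1, a.2.2.2]

/-- the row as a tuple of integers -/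
def tr (s : ℕ) : ℤ × ℤ × ℤ × ℤ :=
  (((rowsL.getD s (8, 8, 8, 8)).1 : ℤ) - 8, ((rowsL.getD s (8, 8, 8, 8)).2.1 : ℤ) - 8,
    ((rowsL.getD s (8, 8, 8, 8)).2.2.1 : ℤ) - 8, ((rowsL.getD s (8, 8, 8, 8)).2.2.2 : ℤ) - 8)

/-- the test, unfolded -/
def gd (a b c : ℤ × ℤ × ℤ × ℤ) : Bool :=
  match a, b, c with
  | (a0, a1, a2, a3), (b0, b1, b2, b3), (c0, c1, c2, c3) =>
  let v1 := -(a0 * (b2 * c3 - b3 * c2) - a2 * (b0 * c3 - b3 * c0) + a3 * (b0 * c2 - b2 * c0))
  let v2 := a0 * (b1 * c3 - b3 * c1) - a1 * (b0 * c3 - b3 * c0) + a3 * (b0 * c1 - b1 * c0)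
  let v3 := -(a0 * (b1 * c2 - b2 * c1) - a1 * (b0 * c2 - b2 * c0) + a2 * (b0 * c1 - b1 * c0))
  let w1 := 2 * (a1 * (b2 * c3 - b3 * c2) - a2 * (b1 * c3 - b3 * c1) + a3 * (b1 * c2 - b2 * c1)) + 3 * v1 + 2 * v2 + v3
  decide (24 % (w1 * w1 + (v1 + v2 + v3) * (v1 + v2 + v3) + (v1 + v2) * (v1 + v2) + v1 * v1) = 0)

theorem gd_spec {a b c : ℤ × ℤ × ℤ × ℤ} (h : gd a b c = true) : qf (cr (vt a) (vt b) (vt c)) ∣ 24 := by
  obtain ⟨a0, a1, a2, a3⟩ := a
  obtain ⟨b0, b1, b2, b3⟩ := b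
  obtain ⟨c0, c1, c2, c3⟩ := c
  have h1 := Int.dvd_of_emod_eq_zero (of_decide_eq_true h)
  convert h1 using 1
  simp only [qf, cr0, cr1, cr2, cr3, dd, vt]
  show _ = _
  simp only [Matrix.cons_val_zero, Matrix.cons_val_one, Matrix.cons_val]
  ring

/-- the positive short roots -/
def SP : List (ℤ × ℤ × ℤ × ℤ) := [(0, 1, 0, 0), (0, 1, 1, 0), (0, 1, 1, 1), (1, 0, 0, 0),
   (1, 1, 0, 0), (1, 1, 1, 0), (1, 1, 1, 1), (1, 2, 1, 0), (1, 2, 1, 1), (1, 2, 2, 1), (1, 3, 2, 1), (2, 3, 2, 1)]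

/-- the positive long roots -/
def LP : List (ℤ × ℤ × ℤ × ℤ) := [(0, 0, 0, 1), (0, 0, 1, 0), (0, 0, 1, 1), (0, 2, 1, 0), (0, 2, 1, 1), (0, 2, 2, 1),
   (2, 2, 1, 0), (2, 2, 1, 1), (2, 2, 2, 1), (2, 4, 2, 1), (2, 4, 3, 1), (2, 4, 3, 2)]

theorem chk_all : (LP.all fun l => SP.all fun s1 => SP.all fun s2 => s1 == s2 || gd l s1 s2 ||
    SP.all fun s3 => s3 == s1 || s3 == s2 || gd l s1 s3) = true := by decide +kernel

theorem mem_all : ((List.range 48).all fun s => Nat.blt s 24 ||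
    bif sh s then SP.elem (tr s) else LP.elem (tr s)) = true := by decide +kernel

theorem mem_LP (s : ℕ) (h : s < 48) (h' : 24 ≤ s) (hs : sh s = false) : tr s ∈ LP := by
  have h1 := List.all_eq_true.1 mem_all s (List.mem_range.2 h)
  rw [hs, cond_false, Bool.or_eq_true] at h1
  rcases h1 with h1 | h1
  · rw [Nat.blt_eq] at h1
    omega
  · exact List.elem_iff.1 h1

theorem mem_SP (s : ℕ) (h : s < 48) (h' : 24 ≤ s) (hs : sh s = true) : tr s ∈ SP := by
  have h1 := List.all_eq_true.1 mem_all s (List.mem_range.2 h)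
  rw [hs, cond_true, Bool.or_eq_true] at h1
  rcases h1 with h1 | h1
  · rw [Nat.blt_eq] at h1
    omega
  · exact List.elem_iff.1 h1

theorem tr_inj : ∀ s < 48, ∀ t < 48, tr s = tr t → s = t := by decide +kernel

/-- the value of the root `s` -/
def ph {R : Type*} [CommRing R] (x : Fin 4 → R) (s : ℕ) : R := lin (vt (tr s)) x

theorem cert {r : ℕ} [hr : Fact r.Prime] (h5 : 5 ≤ r) {x : Fin 4 → ZMod r} (hq : qf x = 0) (hx : x ≠ 0)
    {l s1 s2 s3 : ℕ} (hl : l < 48) (hl' : 24 ≤ l) (hls : sh l = false) (h1 : s1 < 48) (h1' : 24 ≤ s1)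
    (h1s : sh s1 = true) (h2 : s2 < 48) (h2' : 24 ≤ s2) (h2s : sh s2 = true) (h3 : s3 < 48) (h3' : 24 ≤ s3)
    (h3s : sh s3 = true) (h12 : s1 ≠ s2) (h13 : s3 ≠ s1) (h23 : s3 ≠ s2) (p0 : ph x l = 0) (p1 : ph x s1 = 0)
    (p2 : ph x s2 = 0) (p3 : ph x s3 = 0) : False := by
  have k := List.all_eq_true.1 (List.all_eq_true.1 (List.all_eq_true.1 chk_all _ (mem_LP l hl hl' hls)) _
    (mem_SP s1 h1 h1' h1s)) _ (mem_SP s2 h2 h2' h2s)
  rw [Bool.or_eq_true, Bool.or_eq_true, beq_iff_eq] at k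
  rcases k with (k | k) | k
  · exact h12 (tr_inj _ h1 _ h2 k)
  · exact hx (eq_zero_of h5 p0 p1 p2 hq (gd_spec k))
  · have k2 := List.all_eq_true.1 k _ (mem_SP s3 h3 h3' h3s)
    rw [Bool.or_eq_true, Bool.or_eq_true, beq_iff_eq, beq_iff_eq] at k2
    rcases k2 with (k2 | k2) | k2
    · exact h13 (tr_inj _ h3 _ h1 k2)
    · exact h23 (tr_inj _ h3 _ h2 k2)
    · exact hx (eq_zero_of h5 p0 p1 p3 hq (gd_spec k2))

/-! ### counting -/

theorem tr_rev : ∀ s < 48, tr (47 - s) = (-(tr s).1, -(tr s).2.1, -(tr s).2.2.1, -(tr s).2.2.2) ∧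
    sh (47 - s) = sh s := by decide +kernel

theorem ph_rev {R : Type*} [CommRing R] (x : Fin 4 → R) (s : Fin 48) : ph x (Fin.rev s).val = -ph x s.val := by
  have h1 : (Fin.rev s).val = 47 - s.val := by
    rw [Fin.val_rev]
    omega
  rw [h1, ph, ph, (tr_rev s.val s.2).1]
  simp only [lin, vt, Matrix.cons_val_zero, Matrix.cons_val_one, Matrix.cons_val]
  push_cast
  ring

theorem sh_rev (s : Fin 48) : sh (Fin.rev s).val = sh s.val := by
  have h1 : (Fin.rev s).val = 47 - s.val := by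
    rw [Fin.val_rev]
    omega
  rw [h1, (tr_rev s.val s.2).2]

/-- the zeros are twice the positive ones -/
theorem two_mul_pos {R : Type*} [CommRing R] [DecidableEq R] (x : Fin 4 → R) (b : Bool) :
    (Finset.univ.filter fun s : Fin 48 => sh s.val = b ∧ ph x s.val = 0).card =
      2 * (Finset.univ.filter fun s : Fin 48 => 24 ≤ s.val ∧ sh s.val = b ∧ ph x s.val = 0).card := by
  have h1 := Finset.card_filter_add_card_filter_not
    (s := Finset.univ.filter fun s : Fin 48 => sh s.val = b ∧ ph x s.val = 0) (fun s => 24 ≤ s.val)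
  rw [← h1, two_mul, Finset.filter_filter, Finset.filter_filter]
  congr 1
  · congr 1
    ext s
    simp only [Finset.mem_filter, Finset.mem_univ, true_and]
    tauto
  · refine Finset.card_bij (fun s _ => Fin.rev s) ?_ ?_ ?_
    · intro s hs
      rw [Finset.mem_filter] at hs ⊢
      refine ⟨Finset.mem_univ _, ?_, ?_, ?_⟩
      · rw [Fin.val_rev]
        have := hs.2.2
        have := s.2
        omega
      · rw [sh_rev]; exact hs.2.1.1
      · rw [ph_rev, hs.2.1.2, neg_zero]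
    · intro s _ t _ h
      exact Fin.rev_injective h
    · intro s hs
      rw [Finset.mem_filter] at hs
      refine ⟨Fin.rev s, ?_, Fin.rev_rev s⟩
      rw [Finset.mem_filter]
      refine ⟨Finset.mem_univ _, ⟨?_, ?_⟩, ?_⟩
      · rw [sh_rev]; exact hs.2.2.1
      · rw [ph_rev, hs.2.2.2, neg_zero]
      · rw [Fin.val_rev]
        have := hs.2.1
        have := s.2
        omega

theorem card_sh : ∀ b, (Finset.univ.filter fun s : Fin 48 => sh s.val = b).card = 24 := by decide +kernel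

/-- the number of nonzero values is divisible by 3 -/
theorem three_dvd {ι : Type*} [Fintype ι] [DecidableEq ι] {r : ℕ} [Fact r.Prime] (w : Equiv.Perm ι)
    (φ : ι → ZMod r) {c : ZMod r} (hc : orderOf c = 3) (h : ∀ s, φ s = c * φ (w s)) (P : ι → Prop) [DecidablePred P]
    (hP : ∀ s, P (w s) ↔ P s) : 3 ∣ (Finset.univ.filter fun s => P s ∧ φ s ≠ 0).card := by
  classical
  obtain ⟨R, hR0, hR1, hR2⟩ := EigFr.exists_transversal c hc (by norm_num)
  have hc0 : c ≠ 0 := by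
    rintro rfl
    rw [orderOf_eq_zero_iff'.2 (by
      intro n hn
      rw [zero_pow hn.ne']
      exact zero_ne_one)] at hc
    exact absurd hc (by norm_num)
  have hc3 : c ^ 3 = 1 := by rw [← hc, pow_orderOf_eq_one]
  let X : ℕ → Finset ι := fun j => Finset.univ.filter fun s => (P s ∧ φ s ≠ 0) ∧ c ^ j * φ s ∈ R
  have hstep : ∀ j, (X (j + 1)).card = (X j).card := by
    intro j
    refine Finset.card_bij (fun s _ => w.symm s) ?_ ?_ ?_
    · intro s hs
      rw [Finset.mem_filter] at hs ⊢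
      have h1 := h (w.symm s)
      rw [w.apply_symm_apply] at h1
      refine ⟨Finset.mem_univ _, ⟨?_, ?_⟩, ?_⟩
      · rw [← hP, w.apply_symm_apply]; exact hs.2.1.1
      · rw [h1]; exact mul_ne_zero hc0 hs.2.1.2
      · rw [h1, ← mul_assoc, ← pow_succ]; exact hs.2.2
    · intro s _ t _ hst
      exact w.symm.injective hst
    · intro s hs
      rw [Finset.mem_filter] at hs
      have h1 := h s
      refine ⟨w s, ?_, w.symm_apply_apply s⟩
      rw [Finset.mem_filter]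
      refine ⟨Finset.mem_univ _, ⟨(hP s).2 hs.2.1.1, ?_⟩, ?_⟩
      · intro h2
        rw [h2, mul_zero] at h1
        exact hs.2.1.2 h1
      · rw [pow_succ, mul_assoc, ← h1]; exact hs.2.2
  have hU : (Finset.univ.filter fun s => P s ∧ φ s ≠ 0) = X 0 ∪ X 1 ∪ X 2 := by
    ext s
    simp only [X, Finset.mem_union, Finset.mem_filter, Finset.mem_univ, true_and]
    constructor
    · intro hs
      obtain ⟨j, hj, hjR⟩ := hR1 (φ s) hs.2
      interval_cases j
      · exact Or.inl (Or.inl ⟨hs, hjR⟩)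
      · exact Or.inl (Or.inr ⟨hs, hjR⟩)
      · exact Or.inr ⟨hs, hjR⟩
    · rintro ((h | h) | h) <;> exact h.1
  have hd01 : Disjoint (X 0) (X 1) := by
    rw [Finset.disjoint_left]
    intro s h0 h1
    rw [Finset.mem_filter] at h0 h1
    have h2 := h0.2.2
    rw [pow_zero, one_mul] at h2
    exact hR2 _ h2 1 (by norm_num) (by norm_num) h1.2.2
  have hd2 : Disjoint (X 0 ∪ X 1) (X 2) := by
    rw [Finset.disjoint_left]
    intro s h0 h1
    rw [Finset.mem_union, Finset.mem_filter, Finset.mem_filter] at h0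
    rw [Finset.mem_filter] at h1
    rcases h0 with h0 | h0
    · have h2 := h0.2.2
      rw [pow_zero, one_mul] at h2
      exact hR2 _ h2 2 (by norm_num) (by norm_num) h1.2.2
    · have h2 := h0.2.2
      refine hR2 _ h2 1 (by norm_num) (by norm_num) ?_
      have h3 := h1.2.2
      rw [← mul_assoc, pow_one]
      rwa [pow_two] at h3
  rw [hU, Finset.card_union_of_disjoint hd2, Finset.card_union_of_disjoint hd01, hstep 1, hstep 0]
  exact ⟨(X 0).card, by ring⟩

/-! ### the sum of the squares -/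

theorem sum_filter_map {α : Type*} {R : Type*} [AddCommMonoid R] (p : α → Bool) (f : α → R) : ∀ l : List α,
    (l.map fun s => if p s = true then f s else 0).sum = ((l.filter p).map f).sum
  | [] => rfl
  | s :: l => by
    rw [List.map_cons, List.sum_cons, sum_filter_map p f l]
    by_cases h : p s = true
    · rw [List.filter_cons_of_pos h, List.map_cons, List.sum_cons, if_pos h]
    · rw [List.filter_cons_of_neg h, if_neg h, zero_add]

/-- the value of a row -/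
def lv {R : Type*} [CommRing R] (x : Fin 4 → R) (r : ℕ × ℕ × ℕ × ℕ) : R :=
  ((r.1 : R) - 8) * x 0 + ((r.2.1 : R) - 8) * x 1 + ((r.2.2.1 : R) - 8) * x 2 + ((r.2.2.2 : R) - 8) * x 3

theorem ph_eq {R : Type*} [CommRing R] (x : Fin 4 → R) (s : ℕ) : ph x s = lv x (rowsL.getD s (8, 8, 8, 8)) := by
  simp only [ph, lv, lin, vt, tr, Matrix.cons_val_zero, Matrix.cons_val_one, Matrix.cons_val]
  push_cast
  ring

theorem sum_sq {R : Type*} [CommRing R] (x : Fin 4 → R) :
    ∑ s : Fin 48, (if sh s.val = true then ph x s.val ^ 2 else 0) = 6 * qf x := by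
  have h1 : ∑ s : Fin 48, (if sh s.val = true then ph x s.val ^ 2 else 0) =
      ((rowsB true).map fun r => lv x r ^ 2).sum := by
    rw [← rowsB_eq true, List.map_map, Fin.sum_univ_def, sum_filter_map (fun s : Fin 48 => sh s.val)]
    congr 1
    have h2 : (fun s : Fin 48 => sh s.val == true) = fun s : Fin 48 => sh s.val := by
      funext s
      cases sh s.val <;> rfl
    rw [h2]
    refine List.map_congr_left fun s _ => ?_
    rw [ph_eq]
    rfl
  rw [h1, rowsB, cond_true, rowsS]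
  simp only [List.map_cons, List.map_nil, List.sum_cons, List.sum_nil, lv, qf]
  push_cast
  ring

/-! ### the Frobenius map -/

section Frob

variable {F : Type u} [Field F] [Fintype F] [CharP F 2] {q : ℕ} {K : Type u} [Field K] [DecidableEq K]

/-- the permutation of the roots -/
theorem exists_perm (hF : Fintype.card F = q) {x : ↥(chevF4.group F)} {m : ℕ} {f : F →+* K}
    {g : ↥(chevF4.group K)} {z : Kˣ} {a : Fin 4 → ℕ} (h : DV x m K f g z a) :
    ∃ w : Equiv.Perm (Fin 48), (∀ s, sh (w s).val = sh s.val) ∧ ∀ s : Fin 48,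
      (val z a (rowsL.getD (w s).val (8, 8, 8, 8))) ^ q = val z a (rowsL.getD s.val (8, 8, 8, 8)) := by
  have hK : CharP K 2 := charP_of_injective_ringHom f.injective 2
  obtain ⟨n, hn⟩ : ∃ n, q = 2 ^ n := by
    obtain ⟨n, -, hn⟩ := FiniteField.card F 2
    exact ⟨n, hF.symm.trans hn⟩
  have : ExpChar K 2 := ExpChar.prime Nat.prime_two
  let Φ : K →+* K := iterateFrobenius K 2 n
  have hΦ : ∀ c, Φ c = c ^ q := fun c => by rw [hn]; rfl
  have hΦf : ∀ c, Φ (f c) = f c := by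
    intro c
    rw [hΦ, ← map_pow, ← hF, FiniteField.pow_card]
  set t := g * emb hF4 f x * g⁻¹ with ht
  set y' := emb hF4 Φ g * g⁻¹ with hy'
  have h0 : emb hF4 Φ (emb hF4 f x) = emb hF4 f x := by
    apply Subtype.ext
    apply Units.ext
    rw [coe_emb, coe_glMap, coe_emb, coe_glMap]
    ext i j
    rw [Matrix.map_apply, Matrix.map_apply, hΦf]
  have htq : emb hF4 Φ t = t ^ q := by
    apply Subtype.ext
    apply Units.ext
    rw [coe_emb, coe_glMap, h.mat, Subgroup.coe_pow, Units.val_pow_eq_pow_val, h.mat, Matrix.diagonal_pow,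
      Matrix.diagonal_map (map_zero Φ)]
    congr 1
    funext i
    rw [Pi.pow_apply, ← hΦ]
  have h1 : y' * t * y'⁻¹ = t ^ q := by
    rw [← htq, ht, hy', map_mul, map_mul, map_inv, h0]
    group
  have htT : (t : GL chevF4.Idx K) ∈ chevF4.diagonalSubgroup K := h.tor
  have ht2T : ((t ^ q : ↥(chevF4.group K)) : GL chevF4.Idx K) ∈ chevF4.diagonalSubgroup K := by
    rw [Subgroup.coe_pow]
    exact pow_mem htT q
  obtain ⟨n, hn, hc⟩ := Cfsg.Agent.S1046.result (F := K) chevF4 hF4 (t : GL chevF4.Idx K)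
    ((t ^ q : ↥(chevF4.group K)) : GL chevF4.Idx K) (y' : GL chevF4.Idx K) htT ht2T y'.2 (by
      rw [← h1]; rfl)
  have hchi : ∀ s : Fin chevF4.nroots, chi chevF4 K (t : GL chevF4.Idx K) s =
      ((val z a (rowsL.getD s.val (8, 8, 8, 8)) : Kˣ) : K) := by
    intro s
    unfold chi
    rw [dif_pos s.2]
    show ((t : GL chevF4.Idx K) : Matrix chevF4.Idx chevF4.Idx K) (Sum.inr s) (Sum.inr s) = _
    rw [h.mat, Matrix.diagonal_apply_eq, Sum.elim_inr]
  have hchi2 : ∀ s : Fin chevF4.nroots, chi chevF4 K ((t ^ q : ↥(chevF4.group K)) : GL chevF4.Idx K) s =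
      ((val z a (rowsL.getD s.val (8, 8, 8, 8)) : Kˣ) : K) ^ q := by
    intro s
    unfold chi
    rw [dif_pos s.2]
    show (((t ^ q : ↥(chevF4.group K)) : GL chevF4.Idx K) : Matrix chevF4.Idx chevF4.Idx K) (Sum.inr s) (Sum.inr s) = _
    rw [Subgroup.coe_pow, Units.val_pow_eq_pow_val, h.mat, Matrix.diagonal_pow, Matrix.diagonal_apply_eq,
      Pi.pow_apply, Sum.elim_inr]
  have hval : ∀ s : Fin chevF4.nroots, (val z a (rowsL.getD (permHom hF4 K ⟨n, hn⟩ s).val (8, 8, 8, 8))) ^ q =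
      val z a (rowsL.getD s.val (8, 8, 8, 8)) := by
    intro s
    have h2 := Cfsg.Agent.H3.OT.chi_perm hF4 (⟨n, hn⟩ : ↥(chevF4.monomialSubgroup K)) htT s
    rw [show ((⟨n, hn⟩ : ↥(chevF4.monomialSubgroup K)) : GL chevF4.Idx K) = n from rfl, hc, hchi2, hchi] at h2
    apply Units.ext
    rw [Units.val_pow_eq_pow_val]
    exact h2
  exact ⟨permHom hF4 K ⟨n, hn⟩, fun s => sh_perm _ _, hval⟩

/-- the values in `ZMod r` -/
theorem val_pow_eq_iff {z : Kˣ} {r : ℕ} (hz : orderOf z = r) (a : Fin 4 → ℕ) (s t : ℕ) (k l : ℕ) :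
    (val z a (rowsL.getD s (8, 8, 8, 8))) ^ k = (val z a (rowsL.getD t (8, 8, 8, 8))) ^ l ↔
      (k : ZMod r) * ph (fun i => ((a i : ℕ) : ZMod r)) s = (l : ZMod r) * ph (fun i => ((a i : ℕ) : ZMod r)) t := by
  rw [TabLin.val, TabLin.val, ← zpow_natCast, ← zpow_natCast, ← zpow_mul, ← zpow_mul, zpow_eq_zpow_iff_modEq, hz,
    ← ZMod.intCast_eq_intCast_iff, ph_eq, ph_eq]
  simp only [lv]
  push_cast
  rw [mul_comm (k : ZMod r), mul_comm (l : ZMod r)]

/-- **One of the two modules has fixed points of dimension 2.** -/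
theorem ev_two (hF : Fintype.card F = q) {r : ℕ} [hr : Fact r.Prime] (h5 : 5 ≤ r) (hq3 : orderOf (q : ZMod r) = 3)
    {x : ↥(chevF4.group F)} (hx : orderOf x = r) : ∃ b : Bool, ev (Two.rhoT b x) 1 = 2 := by
  have hx1 : x ≠ 1 := by
    rintro rfl
    rw [orderOf_one] at hx
    omega
  have hco : r.Coprime 2 := (Nat.coprime_primes hr.out Nat.prime_two).2 (by omega)
  obtain ⟨K, _, _, f, g, z, a, h⟩ := exists_dv hr.out.ne_zero hco (hx ▸ pow_orderOf_eq_one x)
  obtain ⟨w, hw1, hw2⟩ := exists_perm hF h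
  let y : Fin 4 → ZMod r := fun i => ((a i : ℕ) : ZMod r)
  have hy : y ≠ 0 := by
    intro h0
    have h1 : z4 (a 0) (a 1) (a 2) (a 3) = true := by
      have h2 : ∀ i, a i = 0 := by
        intro i
        have h3 := congrFun h0 i
        exact Nat.eq_zero_of_dvd_of_lt ((ZMod.natCast_eq_zero_iff _ _).1 h3) (h.lt i)
      exact z4_iff.2 ⟨h2 0, h2 1, h2 2, h2 3⟩
    rw [h.ne hx1] at h1
    exact absurd h1 (by decide)
  -- `φ (s) = q φ (w s)`
  have hph : ∀ s : Fin 48, ph y s.val = (q : ZMod r) * ph y (w s).val := by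
    intro s
    have h1 := (val_pow_eq_iff h.ord a (w s).val s.val q 1).1 (by rw [pow_one]; exact hw2 s)
    rw [Nat.cast_one, one_mul] at h1
    exact h1.symm
  -- `Q = 0`
  have hQ : qf y = 0 := by
    have h1 := sum_sq y
    have h2 : ∑ s : Fin 48, (if sh s.val = true then ph y s.val ^ 2 else 0) =
        (q : ZMod r) ^ 2 * ∑ s : Fin 48, (if sh s.val = true then ph y s.val ^ 2 else 0) := by
      rw [Finset.mul_sum, ← Equiv.sum_comp w (fun s : Fin 48 => (q : ZMod r) ^ 2 *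
        (if sh s.val = true then ph y s.val ^ 2 else 0))]
      refine Finset.sum_congr rfl fun s _ => ?_
      rw [hw1 s]
      split_ifs
      · rw [hph s, mul_pow]
      · rw [mul_zero]
    rw [h1] at h2
    have h3 : ((q : ZMod r) ^ 2 - 1) * (6 * qf y) = 0 := by linear_combination -h2
    have h4 : (q : ZMod r) ^ 2 - 1 ≠ 0 := by
      intro h5
      have h6 := orderOf_dvd_of_pow_eq_one (sub_eq_zero.1 h5)
      rw [hq3] at h6
      omega
    have h5' := (mul_eq_zero.1 h3).resolve_left h4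
    refine (mul_eq_zero.1 h5').resolve_left ?_
    intro h6
    have h7 : ((6 : ℕ) : ZMod r) = 0 := by exact_mod_cast h6
    rw [ZMod.natCast_eq_zero_iff] at h7
    rcases hr.out.dvd_mul.1 (show r ∣ 2 * 3 from h7) with h8 | h8
    · have := Nat.le_of_dvd (by norm_num) h8
      omega
    · have := Nat.le_of_dvd (by norm_num) h8
      omega
  -- the counts
  have hcount : ∀ b : Bool, ev (Two.rhoT b x) 1 = 2 +
      (Finset.univ.filter fun s : Fin 48 => sh s.val = b ∧ ph y s.val = 0).card := by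
    intro b
    rw [Two.ev_block f x g _ h.mat b]
    refine congrArg (2 + ·) ?_
    show (Finset.univ.filter fun s : Fin 48 => sh s.val = b ∧
      ((val z a (rowsL.getD s.val (8, 8, 8, 8)) : Kˣ) : K) = 1).card = _
    refine congrArg Finset.card (Finset.filter_congr fun s _ => and_congr Iff.rfl ?_)
    have h1 := val_pow_eq_iff (K := K) h.ord a s.val s.val 1 0
    rw [pow_one, pow_zero, Nat.cast_one, one_mul, Nat.cast_zero, zero_mul] at h1
    rw [← h1, Units.val_eq_one]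
  by_cases hex : ∃ l : Fin 48, 24 ≤ l.val ∧ sh l.val = false ∧ ph y l.val = 0
  · refine ⟨true, ?_⟩
    obtain ⟨l, hl1, hl2, hl3⟩ := hex
    have h3 := three_dvd w (fun s : Fin 48 => ph y s.val) hq3 hph (fun s => sh s.val = true)
      (fun s => by rw [hw1 s])
    have h4 := two_mul_pos y true
    have h5' : (Finset.univ.filter fun s : Fin 48 => 24 ≤ s.val ∧ sh s.val = true ∧ ph y s.val = 0).card ≤ 2 := by
      by_contra hcon
      push Not at hcon
      obtain ⟨s1, s2, s3, m1, m2, m3, n12, n13, n23⟩ := Finset.two_lt_card_iff.1 hcon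
      rw [Finset.mem_filter] at m1 m2 m3
      exact cert h5 hQ hy l.2 hl1 hl2 s1.2 m1.2.1 m1.2.2.1 s2.2 m2.2.1 m2.2.2.1 s3.2 m3.2.1 m3.2.2.1
        (fun e => n12 (Fin.ext e)) (fun e => n13 (Fin.ext e.symm)) (fun e => n23 (Fin.ext e.symm)) hl3
        m1.2.2.2 m2.2.2.2 m3.2.2.2
    have h6 := Finset.card_filter_add_card_filter_not
      (s := Finset.univ.filter fun s : Fin 48 => sh s.val = true) (fun s => ph y s.val = 0)
    rw [card_sh true, Finset.filter_filter, Finset.filter_filter] at h6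
    rw [hcount true]
    have h7 : (Finset.univ.filter fun s : Fin 48 => sh s.val = true ∧ ¬ ph y s.val = 0).card =
      (Finset.univ.filter fun s : Fin 48 => sh s.val = true ∧ ph y s.val ≠ 0).card := rfl
    rw [h7] at h6
    omega
  · refine ⟨false, ?_⟩
    rw [hcount false, two_mul_pos y false]
    have h1 : (Finset.univ.filter fun s : Fin 48 => 24 ≤ s.val ∧ sh s.val = false ∧ ph y s.val = 0).card = 0 := by
      rw [Finset.card_eq_zero, Finset.filter_eq_empty_iff]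
      intro s _ hs
      exact hex ⟨s, hs⟩
    rw [h1]

end Frob

end Cfsg.Agent.H81.Spr
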